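import Cfsg.Agent.Lib.UThreeLocal.Big.Local.Swap.Quot
import Cfsg.Agent.Lib.UThreeLocal.Big.Local.Interface
import Cfsg.Agent.Lib.UThreeLocal.Cand.Double

/-!
# The element exchanging the two points

`C(W) ∩ C(r)` modulo `W` is `(SL₂(3) ∘ SL₂(3)).2`; it gives `n` in `C(W) ∩ C(r)` exchanging `z` and `y`,
the commuting quaternion groups `L₂`, `ⁿL₂`, and the Frattini argument for `A`.
-/

set_option autoImplicit false
set_option linter.unusedSectionVars false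
set_option linter.style.haveILetI false
set_option maxRecDepth 100000
set_option synthInstance.maxSize 10000
set_option maxHeartbeats 1600000

namespace Cfsg.Agent.UThreeLocal.Big.Local

open Subgroup
open Cfsg.Agent.SpThreeCent
open Cfsg.Agent.PSpAmalgam (SL3 negOne)
open Cfsg.Agent.UThreeLocal.Cand (IsQ slq_mul slq_inv sl_eight slq_card sl_neg slq_norm sl_cent_three slq_pair
  slq_cube slq_cent_all slq_three sl_neg_comm sl_neg_mul_ne zp_cases exists_sl_action exists_prod Prod2)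

universe u

theorem slq_conj : ∀ x q : SL3, IsQ q → IsQ (x⁻¹ * q * x) := by decide +kernel

theorem sl_invol : ∀ p : SL3, p * p = 1 → p = 1 ∨ p = negOne := by decide +kernel

variable {G : Type u} [Group G] [Finite G]

theorem centralizer_inv (y : G) : centralizer ({y⁻¹} : Set G) = centralizer ({y} : Set G) := by
  ext x
  rw [mem_centralizer_singleton_iff, mem_centralizer_singleton_iff]
  exact ⟨fun h => (Commute.inv_right_iff.1 (show Commute x y⁻¹ from h)).eq,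
    fun h => (Commute.inv_right_iff.2 (show Commute x y from h)).eq⟩

theorem BB_inv (P : Subgroup G) (y : G) : BB P y⁻¹ = BB P y := by unfold BB; rw [centralizer_inv]

theorem AA_inv (P : Subgroup G) (y r : G) : AA P y⁻¹ r = AA P y r := by unfold AA; rw [BB_inv]

variable {Z Q Q1 Q2 L1 L2 P W Qy : Subgroup G} {t1 t2 z y g d a : G}

theorem BigData.inv (D : BigData Z Q Q1 Q2 L1 L2 P t1 t2 z y g d a) :
    BigData Z Q Q1 Q2 L1 L2 P t1 t2 z y⁻¹ g d a := by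
  have hFx : Fx Q y⁻¹ = Fx Q y := by
    ext x
    rw [mem_Fx, mem_Fx]
    refine ⟨fun ⟨h1, h2⟩ => ⟨h1, ?_⟩, fun ⟨h1, h2⟩ => ⟨h1, ?_⟩⟩
    · nth_rewrite 1 [← h2]; group
    · nth_rewrite 1 [← h2]; group
  refine ⟨D.frame, D.z_mem, D.z_ne, ?_, inv_mem D.y_cent, fun h => D.y_not (inv_mem_iff.1 h), ?_,
    inv_mem D.y_g, D.P_pgroup, D.P_le, D.P_card, inv_mem D.y_P, D.flag1, D.flag2, D.d_rad, D.a_rad, D.a_inv, ?_⟩
  · obtain ⟨k, w, hw, hw1, e⟩ := D.pt
    exact ⟨k, w⁻¹, inv_mem hw, inv_ne_one.2 hw1, by rw [← conj_inv, e]⟩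
  · exact ((show Commute t2 y from D.y_t2).inv_right).eq
  · intro K hK hn
    refine D.sig K hK ?_
    rwa [hFx, zpowers_inv] at hn

namespace Plane

theorem inv (Pl : Plane Z Q Q1 Q2 L1 L2 P W Qy t1 t2 z y g d a) :
    Plane Z Q Q1 Q2 L1 L2 P W Qy t1 t2 z y⁻¹ g d a :=
  ⟨Pl.data.inv, by rw [AA_inv]; exact Pl.le, Pl.card, Pl.d_mem, Pl.centQ2, Pl.centQy, Pl.z_not,
    fun h => Pl.y_not (inv_mem_iff.1 h), by rw [centralizer_inv]; exact Pl.Qy_le, Pl.Qy_three,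
    by rw [BB_inv]; exact Pl.B_norm, by rw [BB_inv]; exact Pl.big⟩

/-- An element of `C(W) ∩ C(r)` carrying `y` into `Z`. -/
theorem exists_conj_fix (Pl : Plane Z Q Q1 Q2 L1 L2 P W Qy t1 t2 z y g d a) :
    ∃ c ∈ centralizer (W : Set G), c * t2 = t2 * c ∧ c * y * c⁻¹ ∈ Z := by
  classical
  haveI : Fact (Nat.Prime 2) := ⟨Nat.prime_two⟩
  haveI : Fact (Nat.Prime 3) := ⟨Nat.prime_three⟩
  have D := Pl.data
  have F := D.frame
  obtain ⟨c0, hc0W, hc0y⟩ := Pl.exists_conj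
  set H := centralizer (Z : Set G) ⊓ centralizer (W : Set G) with hH
  have hHN : H ≤ normalizer (Q2 : Set G) := fun c hc => by
    refine mem_normalizer_iff.2 ((F.perm c hc.1).resolve_right fun hs => ?_).2
    have h2 := (hs.1 d).1 D.flag1.mem
    rw [← mem_centralizer_iff.1 hc.2 d Pl.d_mem, mul_inv_cancel_right] at h2
    exact D.flag1.notZ (F.not_swap_both D.flag1.mem h2)
  set s := c0 * t2 * c0⁻¹ with hs
  have htW : t2 ∈ centralizer (W : Set G) := Pl.L2_cent F.t2_mem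
  have hc0ne : c0 * y * c0⁻¹ ≠ 1 := fun e => D.pt.ne_one (conj_eq_one_iff.1 e)
  have hsH : s ∈ H := by
    refine mem_inf.2 ⟨?_, mul_mem (mul_mem hc0W htW) (inv_mem hc0W)⟩
    refine mem_centralizer_iff.2 fun w hw => ?_
    obtain ⟨n, rfl⟩ := mem_zpowers_iff.1 ((zpowers_eq_of_prime D.set.Z_card hc0y hc0ne).ge hw)
    exact ((((show Commute y t2 from D.y_t2.symm).map (MulAut.conj c0).toMonoidHom)).zpow_left n).eq
  have hL2H : L2 ≤ H := fun l hl => mem_inf.2 ⟨F.L2_le hl, Pl.L2_cent hl⟩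
  obtain ⟨π, hπ⟩ := exists_sl_action F D.z_mem D.z_ne (K := H) inf_le_left hHN
  have hker : ∀ k : ↥H, π k = 1 → (k : G) ∈ P := fun k hk => Pl.mem_P_triv k.2.1 k.2.2 ((hπ k).1 hk)
  set L := L2.subgroupOf H with hL
  have hLc : Nat.card ↥L = 8 := (Nat.card_congr (subgroupOfEquivOfLe hL2H).toEquiv).trans F.L2_card
  have hLi : ¬ 2 ∣ L.index := by
    intro h2
    obtain ⟨k, hk⟩ := IsPGroup.iff_card.1 ((D.P_pgroup.to_le (show π.ker.map H.subtype ≤ P by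
      rintro _ ⟨k, hk, rfl⟩; exact hker k hk)))
    rw [card_subtype] at hk
    have hdvd : Nat.card ↥H ∣ 3 ^ k * 24 := by
      rw [← π.ker.card_mul_index, hk, index_ker]
      exact Nat.mul_dvd_mul_left _ (PSpAmalgam.card_SL3 ▸ card_subgroup_dvd_card π.range)
    rw [← L.card_mul_index, hLc] at hdvd
    have h16 : 16 ∣ 3 ^ k * 24 := (Nat.mul_dvd_mul_left 8 h2).trans hdvd
    have h2' : 2 ∣ 3 ^ k * 3 := by
      rw [show 3 ^ k * 24 = 8 * (3 ^ k * 3) by ring, show (16 : ℕ) = 8 * 2 by norm_num] at h16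
      exact Nat.dvd_of_mul_dvd_mul_left (by norm_num) h16
    rw [← pow_succ] at h2'
    exact absurd (Nat.prime_two.dvd_of_dvd_pow h2') (by norm_num)
  have hs2 : s * s = 1 := by rw [hs, conj_mul, D.t2_sq, mul_one, mul_inv_cancel]
  let S : Sylow 2 ↥H := (IsPGroup.of_card (p := 2) (n := 3) (by rw [hLc]; norm_num) : IsPGroup 2 ↥L).toSylow hLi
  have hsp : IsPGroup 2 ↥(zpowers (⟨s, hsH⟩ : ↥H)) := by
    rintro ⟨x, hx⟩
    obtain ⟨n, rfl⟩ := mem_zpowers_iff.1 hx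
    refine ⟨1, Subtype.ext ?_⟩
    show (((⟨s, hsH⟩ : ↥H) ^ n) ^ (2 ^ 1)) = 1
    rw [pow_one, ← zpow_natCast, ← zpow_mul, mul_comm, zpow_mul, zpow_natCast, pow_two,
      show (⟨s, hsH⟩ : ↥H) * ⟨s, hsH⟩ = 1 from Subtype.ext hs2, one_zpow]
  obtain ⟨S', hS'⟩ := hsp.exists_le_sylow
  obtain ⟨k, hk⟩ := MulAction.exists_smul_eq ↥H S' S
  have hks : (k : G) * s * (k : G)⁻¹ ∈ L2 := by
    have hm : k * ⟨s, hsH⟩ * k⁻¹ ∈ ((k • S' : Sylow 2 ↥H) : Subgroup ↥H) := by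
      rw [Sylow.coe_subgroup_smul]
      exact ⟨⟨s, hsH⟩, hS' (mem_zpowers _), rfl⟩
    rw [hk] at hm
    exact hm
  have hks2 : (k : G) * s * (k : G)⁻¹ * ((k : G) * s * (k : G)⁻¹) = 1 := by
    rw [conj_mul, hs2, mul_one, mul_inv_cancel]
  -- the only involution of `L₂`
  have hinj : ∀ l m : G, ∀ hl : l ∈ L2, ∀ hm : m ∈ L2, π ⟨l, hL2H hl⟩ = π ⟨m, hL2H hm⟩ → l = m := by
    intro l m hl hm e
    have ht := hker (⟨l, hL2H hl⟩ * (⟨m, hL2H hm⟩ : ↥H)⁻¹) (by rw [map_mul, map_inv, e, mul_inv_cancel])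
    obtain ⟨j, hj⟩ := D.P_pgroup ⟨_, ht⟩
    have h3 : (l * m⁻¹) ^ 3 ^ j = 1 := by simpa using congrArg Subtype.val hj
    have := pow_gcd_eq_one.2 ⟨Pl.L2_eight (mul_mem hl (inv_mem hm)), h3⟩
    rw [show Nat.gcd 8 (3 ^ j) = 1 from Nat.Coprime.pow_right j (by norm_num), pow_one] at this
    exact mul_inv_eq_one.1 this
  have hneg : ∀ l, ∀ hl : l ∈ L2, l * l = 1 → l = 1 ∨ π ⟨l, hL2H hl⟩ = negOne := by
    intro l hl hl2
    rcases sl_invol (π ⟨l, hL2H hl⟩) (by rw [← map_mul, show (⟨l, hL2H hl⟩ : ↥H) * ⟨l, hL2H hl⟩ = 1 from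
      Subtype.ext hl2, map_one]) with e | e
    · left
      refine hinj l 1 hl (one_mem _) (e.trans ?_)
      exact (map_one π).symm
    · exact Or.inr e
  have h1 : (k : G) * s * (k : G)⁻¹ = t2 := by
    rcases hneg _ hks hks2 with e | e
    · exact absurd (conj_eq_one_iff.1 (conj_eq_one_iff.1 e)) D.t2_ne
    rcases hneg t2 F.t2_mem D.t2_sq with e' | e'
    · exact absurd e' D.t2_ne
    exact hinj _ _ hks F.t2_mem (e.trans e'.symm)
  refine ⟨(k : G) * c0, mul_mem k.2.2 hc0W, mul_inv_eq_iff_eq_mul.1 ?_, ?_⟩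
  · rw [show (k : G) * c0 * t2 * ((k : G) * c0)⁻¹ = (k : G) * s * (k : G)⁻¹ by rw [hs]; group, h1]
  · rw [show (k : G) * c0 * y * ((k : G) * c0)⁻¹ = (k : G) * (c0 * y * c0⁻¹) * (k : G)⁻¹ by group,
      D.set.conj_Z k.2.1 hc0y]
    exact hc0y

/-- The exchange, once `c` carries `y` to `z`. -/
theorem exists_duo_of (Pl : Plane Z Q Q1 Q2 L1 L2 P W Qy t1 t2 z y g d a) {c : G}
    (hcW : c ∈ centralizer (W : Set G)) (hct : c * t2 = t2 * c) (hcy : c * y * c⁻¹ = z) :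
    ∃ n, Duo Z Q Q1 Q2 L1 L2 P W t1 t2 z y g d a n := by
  classical
  haveI : Fact (Nat.Prime 3) := ⟨Nat.prime_three⟩
  have D := Pl.data
  have F := D.frame
  let C := centralizer (W : Set G)
  have hW3 : ∀ w ∈ W, w ^ 3 = 1 := fun w hw => Pl.cube hw
  let rC : ↥C := ⟨t2, Pl.L2_cent F.t2_mem⟩
  let zC : ↥C := ⟨z, Pl.A_cent D.z_A⟩
  let yC : ↥C := ⟨y, Pl.A_cent D.y_A⟩
  let cC : ↥C := ⟨c, hcW⟩
  set rb := pw W rC with hrb
  set yb := pw W yC with hyb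
  have hr2 : rC * rC = 1 := Subtype.ext D.t2_sq
  have hrcomm : ∀ b : ↥C, (b : G) * t2 = t2 * b → pw W b * rb = rb * pw W b := fun b hb => by
    rw [hrb, ← map_mul, ← map_mul]; exact congrArg _ (Subtype.ext hb)
  have hrlift : ∀ b : ↥C, pw W b * rb = rb * pw W b → (b : G) * t2 = t2 * b := fun b hb =>
    comm_of_pw hW3 (a := rC) (b := b) (n := 2) (by norm_num) (by rw [pow_two]; exact D.t2_sq) hb
  obtain ⟨φ, L⟩ := Pl.exists_loc
  have hrzb : rb ∈ centralizer ({Pl.zb} : Set (XW W)) := mem_centralizer_singleton_iff.2 (by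
    show pw W rC * pw W zC = pw W zC * pw W rC
    rw [← map_mul, ← map_mul]
    exact congrArg _ (Subtype.ext (D.z_cent D.t2_cent)))
  obtain ⟨P', u, hP⟩ := exists_prod L (t := rb) (by rw [hrb, ← map_mul, hr2, map_one]) hrzb (by
      rintro _ ⟨q, hq, rfl⟩
      obtain ⟨n, hn⟩ := mem_zpowers_iff.1 ((zpowers_eq_of_prime D.set.Z_card D.z_mem D.z_ne).ge
        (F.t2_inv (q : G) hq))
      refine mem_zpowers_iff.2 ⟨n, ?_⟩
      show (pw W zC) ^ n = _
      rw [hrb, ← map_inv, ← map_mul, ← map_mul, ← map_mul, ← map_zpow]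
      exact congrArg _ (Subtype.ext (by push_cast; exact hn)))
  have hPeq : ∀ x x' : SL3 × SL3, P' x = P' x' → x' = x ∨ x' = (negOne, negOne) * x := fun x x' e => by
    have h1 : P' (x' * x⁻¹) = 1 := by rw [map_mul, map_inv, e, mul_inv_cancel]
    rcases (hP.ker _).1 h1 with h | h
    · exact Or.inl (mul_inv_eq_one.1 h)
    · exact Or.inr (mul_inv_eq_iff_eq_mul.1 h)
  have hnegP : P' (negOne, negOne) = 1 := (hP.ker _).2 (Or.inr rfl)
  have hPcomm : ∀ x x' : SL3 × SL3, P' x * P' x' = P' x' * P' x →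
      (x.1 * x'.1 = x'.1 * x.1 ∧ x.2 * x'.2 = x'.2 * x.2) ∨
        (x.1 * x'.1 = negOne * (x'.1 * x.1) ∧ x.2 * x'.2 = negOne * (x'.2 * x.2)) := fun x x' e => by
    rw [← map_mul, ← map_mul] at e
    rcases hPeq _ _ e.symm with e1 | e1
    · exact Or.inl ⟨congrArg Prod.fst e1, congrArg Prod.snd e1⟩
    · exact Or.inr ⟨congrArg Prod.fst e1, congrArg Prod.snd e1⟩
  have hswap : ∀ x : SL3 × SL3, u * P' x = P' (x.2, x.1) * u := fun x => by
    rw [← hP.swap x, mul_assoc, hP.u2, mul_one]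
  -- elements of order three
  have hcube : ∀ v : XW W, v * rb = rb * v → v ^ 3 = 1 →
      ∃ x : SL3 × SL3, x.1 ^ 3 = 1 ∧ x.2 ^ 3 = 1 ∧ v = P' x := by
    intro v hv h3
    obtain ⟨x, hx | hx⟩ := hP.all v (mem_top _) hv
    · refine ⟨x ^ 4, ?_, ?_, ?_⟩
      · rw [Prod.pow_fst, ← pow_mul]; exact (sl_eight x.1).2.2.1
      · rw [Prod.pow_snd, ← pow_mul]; exact (sl_eight x.2).2.2.1
      · rw [map_pow, ← hx, pow_succ, h3, one_mul]
    · exfalso
      refine hP.unot ?_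
      have e1 : v * v = P' (x * (x.2, x.1)) := by
        rw [hx, map_mul, ← hP.swap x]; group
      have e2 : v = (P' (x * (x.2, x.1)))⁻¹ := by
        rw [← e1]
        exact eq_inv_of_mul_eq_one_right (by rw [← pow_two, ← pow_succ, h3])
      refine ⟨x⁻¹ * (x * (x.2, x.1))⁻¹, ?_⟩
      rw [map_mul, map_inv, map_inv, ← e2, hx, inv_mul_cancel_left]
  -- the image of `z`
  have hzr : Pl.zb * rb = rb * Pl.zb := (mem_centralizer_singleton_iff.1 hrzb).symm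
  have hzc3 : Pl.zb ^ 3 = 1 := L.order ▸ pow_orderOf_eq_one Pl.zb
  obtain ⟨⟨p0, a1⟩, hp03, ha13, hza⟩ := hcube Pl.zb hzr hzc3
  simp only at hp03 ha13
  have hp0 : p0 = 1 := by
    have hc : ∀ p : SL3, p0 * p = p * p0 ∨ p0 * p = negOne * (p * p0) := fun p => by
      have := hPcomm (p0, a1) (p, 1) (by rw [← hza]; exact (hP.cent p).symm)
      exact this.imp And.left And.left
    rcases slq_cent_all p0 hc with h | h
    · exact h
    · exfalso; rw [h, sl_neg.2.2.2] at hp03; exact sl_neg.2.2.1 hp03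
  subst hp0
  have hzne : Pl.zb ≠ 1 := fun e => by
    have := L.order
    rw [e, orderOf_one] at this
    omega
  have ha1 : a1 ≠ 1 := fun e => hzne (by rw [hza, e]; exact map_one P')
  have hQ2elt : ∀ v : XW W, v * rb = rb * v → v * Pl.zb = Pl.zb * v → v ^ 8 = 1 →
      ∃ p : SL3, IsQ p ∧ v = P' (p, 1) := by
    intro v hv hvz h8
    obtain ⟨x, hx | hx⟩ := hP.all v (mem_top _) hv
    · obtain ⟨x1, x2⟩ := x
      rw [hx, hza] at hvz
      have h2 : x2 * a1 = a1 * x2 := by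
        rcases hPcomm _ _ hvz with ⟨-, h⟩ | ⟨h, -⟩
        · exact h
        · exfalso
          simp only [one_mul, mul_one] at h
          exact sl_neg.2.2.1 (mul_eq_right.1 h.symm)
      rw [hx, ← map_pow] at h8
      rcases (hP.ker _).1 h8 with h | h
      swap
      · exact absurd (congrArg Prod.fst h) (sl_eight x1).1
      have hx1 := (sl_eight x1).2.1 (congrArg Prod.fst h)
      have hx2 := (sl_eight x2).2.1 (congrArg Prod.snd h)
      rcases slq_norm a1 ha13 ha1 x2 hx2 ⟨1, Or.inl (by rw [h2, mul_inv_cancel_right]; exact (pow_one a1).symm)⟩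
        with e | e <;> subst e
      · exact ⟨x1, hx1, hx⟩
      · refine ⟨negOne * x1, slq_mul _ _ sl_neg.2.1 hx1, ?_⟩
        rw [hx, ← one_mul (P' (x1, negOne)), ← hnegP, ← map_mul, Prod.mk_mul_mk, sl_neg.1]
    · exfalso
      rw [hx, hza, mul_assoc, hswap (1, a1), ← mul_assoc, ← mul_assoc, ← map_mul, ← map_mul] at hvz
      have e2 := hPeq _ _ (mul_right_cancel hvz)
      rcases e2 with e2 | e2 <;> have e3 := congrArg Prod.fst e2 <;>
        simp only [Prod.fst_mul, one_mul] at e3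
      · exact ha1 (left_eq_mul.1 e3)
      · refine sl_neg_mul_ne a1 ha13 ha1 ?_
        rw [← mul_assoc, sl_neg_comm, mul_assoc] at e3
        have e4 : negOne * a1 = 1 := left_eq_mul.1 e3
        calc a1 = negOne * negOne * a1 := by rw [sl_neg.1, one_mul]
          _ = negOne := by rw [mul_assoc, e4, mul_one]
  -- the image of `c`
  have hyr : yb * rb = rb * yb := hrcomm yC D.y_t2.symm
  have hyz : yb * Pl.zb = Pl.zb * yb := by
    show pw W yC * pw W zC = pw W zC * pw W yC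
    rw [← map_mul, ← map_mul]
    exact congrArg _ (Subtype.ext (D.A_comm D.y_A D.z_A))
  have hcb : pw W cC * yb * (pw W cC)⁻¹ = Pl.zb := by
    rw [hyb, ← map_inv, ← map_mul, ← map_mul]
    exact congrArg _ (Subtype.ext hcy)
  have hyzW : ¬ ∃ i : ℕ, yb = Pl.zb ^ i := by
    rintro ⟨i, e⟩
    have e' : pw W yC = pw W (zC ^ i) := e.trans (map_pow (pw W) zC i).symm
    have h1 := pw_eq e'.symm
    push_cast at h1
    refine D.nontriv.2 fun x hx => ?_
    have hzQ : z ^ i ∈ centralizer (Q2 : Set G) := pow_mem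
      (mem_centralizer_iff.2 fun u hu => (D.set.comm_Z (F.pair.le2 hu) D.z_mem).symm) _
    have h2 := mul_mem hzQ (Pl.centQ2 h1)
    rw [mul_inv_cancel_left] at h2
    rw [← mem_centralizer_iff.1 h2 x hx, mul_inv_cancel_right, inv_mul_cancel]; exact one_mem _
  obtain ⟨x, hx⟩ := hP.all (pw W cC) (mem_top _) (hrcomm cC hct)
  obtain ⟨x1, x2⟩ := x
  rcases hx with hx | hx
  · -- then `y` would commute modulo `W` into `⟨z⟩`
    exfalso
    have e : yb = P' (1, x2⁻¹ * a1 * x2) := by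
      rw [show yb = (pw W cC)⁻¹ * Pl.zb * pw W cC by rw [← hcb]; group, hx, hza, ← map_inv, ← map_mul, ← map_mul]
      exact congrArg P' (Prod.ext (by simp) (by simp))
    have h3 : (x2⁻¹ * a1 * x2) ^ 3 = 1 := by
      have := conj_pow (i := 3) (a := x2⁻¹) (b := a1)
      rw [inv_inv, ha13, mul_one, inv_mul_cancel] at this
      exact this
    obtain ⟨i, hi⟩ := sl_cent_three a1 ha13 ha1 _ h3 ((hPcomm (1, x2⁻¹ * a1 * x2) (1, a1)
      (by rw [← e, ← hza]; exact hyz)).imp And.right And.right)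
    refine hyzW ⟨i, ?_⟩
    rw [e, hi, hza, ← map_pow]
    simp
  set p := x2⁻¹ * a1 * x2 with hp
  have hybP : yb = P' (p, 1) := by
    rw [show yb = (pw W cC)⁻¹ * Pl.zb * pw W cC by rw [← hcb]; group, hx, hza, mul_inv_rev,
      inv_eq_of_mul_eq_one_right hP.u2,
      show u * (P' (x1, x2))⁻¹ * P' (1, a1) * (P' (x1, x2) * u) =
        u * ((P' (x1, x2))⁻¹ * P' (1, a1) * P' (x1, x2)) * u by group, ← map_inv, ← map_mul, ← map_mul, hP.swap]
    exact congrArg P' (Prod.ext (by simp [hp]) (by simp))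
  have hp3 : p ^ 3 = 1 := by
    have := conj_pow (i := 3) (a := x2⁻¹) (b := a1)
    rw [inv_inv, ha13, mul_one, inv_mul_cancel] at this
    exact this
  have hp1 : p ≠ 1 := fun e => ha1 (by
    calc a1 = x2 * p * x2⁻¹ := by rw [hp]; group
      _ = 1 := by rw [e, mul_one, mul_inv_cancel])
  -- the exchange
  set nb := P' (x2⁻¹, x2) * u with hnb
  have hnz : nb * Pl.zb * nb⁻¹ = yb := by
    rw [hybP, hza, hnb, mul_inv_rev, inv_eq_of_mul_eq_one_right hP.u2,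
      show P' (x2⁻¹, x2) * u * P' (1, a1) * (u * (P' (x2⁻¹, x2))⁻¹) =
        P' (x2⁻¹, x2) * (u * P' (1, a1) * u) * (P' (x2⁻¹, x2))⁻¹ by group, hP.swap, ← map_inv, ← map_mul, ← map_mul]
    exact congrArg P' (Prod.ext (by simp [hp]) (by simp))
  have hny : nb * yb * nb⁻¹ = Pl.zb := by
    rw [hybP, hza, hnb, mul_inv_rev, inv_eq_of_mul_eq_one_right hP.u2,
      show P' (x2⁻¹, x2) * u * P' (p, 1) * (u * (P' (x2⁻¹, x2))⁻¹) =
        P' (x2⁻¹, x2) * (u * P' (p, 1) * u) * (P' (x2⁻¹, x2))⁻¹ by group, hP.swap, ← map_inv, ← map_mul, ← map_mul]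
    exact congrArg P' (Prod.ext (by simp) (by simp [hp, mul_assoc]))
  have hur : u * rb = rb * u := by
    have h1 : (P' (x1, x2))⁻¹ * pw W cC = u := by rw [hx, inv_mul_cancel_left]
    rw [← h1]
    exact (((show Commute (P' (x1, x2)) rb from hP.comm _).inv_left).mul_left
      (show Commute (pw W cC) rb from hrcomm cC hct)).eq
  have hnbr : nb * rb = rb * nb := ((show Commute (P' (x2⁻¹, x2)) rb from hP.comm _).mul_left hur).eq
  obtain ⟨nC, hnC⟩ := pw_surj W nb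
  set n := (nC : G) with hn
  have hnt : n * t2 = t2 * n := hrlift nC (by rw [hnC]; exact hnbr)
  have hnW : ∀ w ∈ W, n * w = w * n := fun w hw => (mem_centralizer_iff.1 nC.2 w hw).symm
  -- the only points
  have hny' : n * y * n⁻¹ = z := by
    rw [← hnC, hyb] at hny
    unfold Plane.zb at hny
    rw [← map_inv, ← map_mul, ← map_mul] at hny
    have h := pw_eq hny.symm
    push_cast at h
    have h1 := Pl.pt_zW h (by rw [mul_inv_cancel_left]; exact D.pt.conj n)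
    exact (inv_mul_eq_one.1 h1).symm
  have hnz' : n * z * n⁻¹ = y := by
    rw [← hnC, hyb] at hnz
    unfold Plane.zb at hnz
    rw [← map_inv, ← map_mul, ← map_mul] at hnz
    have h := pw_eq hnz.symm
    push_cast at h
    set w := y⁻¹ * (n * z * n⁻¹) with hw
    have e : c * (n * z * n⁻¹) * c⁻¹ = z * w := by
      calc c * (n * z * n⁻¹) * c⁻¹ = (c * y * c⁻¹) * (c * w * c⁻¹) := by rw [hw]; group
        _ = _ := by rw [hcy, ← mem_centralizer_iff.1 hcW w h, mul_inv_cancel_right]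
    have h1 := Pl.pt_zW h (e ▸ ((IsPt.of_mem D.z_mem D.z_ne).conj n).conj c)
    exact (inv_mul_eq_one.1 h1).symm
  have hnA : n ∈ normalizer (AA P y t2 : Set G) := Subgroup.mem_normalizer_fintype fun e he => by
    obtain ⟨i, j, w, hw, rfl⟩ := Pl.mem_A' he
    rw [SetLike.mem_coe, show n * (z ^ (i : ℕ) * y ^ (j : ℕ) * w) * n⁻¹ =
      (n * z ^ (i : ℕ) * n⁻¹) * (n * y ^ (j : ℕ) * n⁻¹) * (n * w * n⁻¹) by group, ← conj_pow, ← conj_pow,
      hnz', hny', hnW w hw, mul_inv_cancel_right]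
    exact mul_mem (mul_mem (pow_mem D.y_A _) (pow_mem D.z_A _)) (Pl.le hw)
  -- the two quaternion groups
  have hLC : L2 ≤ C := Pl.L2_cent
  set Ly := cj n L2 with hLy
  have hLym : ∀ m ∈ Ly, n⁻¹ * m * n ∈ L2 := fun m hm => mem_cj.1 hm
  have hLyC : Ly ≤ C := fun m hm => by
    have h1 := mul_mem (mul_mem nC.2 (hLC (hLym m hm))) (inv_mem nC.2)
    rwa [show (nC : G) * (n⁻¹ * m * n) * (nC : G)⁻¹ = m by rw [hn]; group] at h1
  have hLy8 : ∀ m ∈ Ly, m ^ 8 = 1 := fun m hm => by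
    have h1 := Pl.L2_eight (hLym m hm)
    have h2 := conj_pow (i := 8) (a := n⁻¹) (b := m)
    rw [inv_inv, h1] at h2
    calc m ^ 8 = n * (n⁻¹ * m ^ 8 * n) * n⁻¹ := by group
      _ = 1 := by rw [← h2, mul_one, mul_inv_cancel]
  have hL2t : ∀ l ∈ L2, l * t2 = t2 * l := fun l hl => (F.t2_comm l hl).symm
  have hLyr : ∀ m ∈ Ly, m * t2 = t2 * m := fun m hm => by
    have h1 : Commute n t2 := hnt
    have h2 := ((h1.mul_left (show Commute (n⁻¹ * m * n) t2 from hL2t _ (hLym m hm))).mul_left h1.inv_left).eq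
    rwa [show n * (n⁻¹ * m * n) * n⁻¹ = m by group] at h2
  have hpow8 : ∀ {l : G} (hl : l ∈ C), l ^ 8 = 1 → (pw W ⟨l, hl⟩) ^ 8 = 1 := fun hl h => by
    rw [← map_pow, show (⟨_, hl⟩ : ↥C) ^ 8 = 1 from Subtype.ext h, map_one]
  have hprinj : ∀ {a b : ↥C}, (a : G) ∈ L2 → (b : G) ∈ L2 → pw W a = pw W b → a = b := by
    intro a b ha hb e
    have h4 := pow_gcd_eq_one.2 ⟨Pl.L2_eight (mul_mem (inv_mem ha) hb), hW3 _ (pw_eq e)⟩
    rw [show Nat.gcd 8 3 = 1 from rfl, pow_one] at h4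
    exact Subtype.ext (inv_mul_eq_one.1 h4)
  have hL2im : ∀ l : ↥L2, ∃ q : {q : SL3 // IsQ q}, pw W ⟨l, hLC l.2⟩ = P' (q.1, 1) := by
    intro l
    obtain ⟨q, hq, e⟩ := hQ2elt _ (hrcomm ⟨l, hLC l.2⟩ (hL2t l l.2)) (by
      show pw W _ * pw W zC = pw W zC * pw W _
      rw [← map_mul, ← map_mul]
      exact congrArg _ (Subtype.ext (D.z_cent (F.L2_le l.2)))) (hpow8 _ (Pl.L2_eight l.2))
    exact ⟨⟨q, hq⟩, e⟩
  choose π2 hπ2 using hL2im
  have hQ8card : Nat.card {q : SL3 // IsQ q} = 8 := by rw [Nat.card_eq_fintype_card]; exact slq_card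
  have hπ2b : Function.Bijective π2 := by
    refine (Nat.bijective_iff_injective_and_card π2).2 ⟨fun a b e => Subtype.ext ?_, by rw [F.L2_card, hQ8card]⟩
    exact congrArg (fun w : ↥C => (w : G)) (hprinj (a := ⟨a, hLC a.2⟩) (b := ⟨b, hLC b.2⟩)
      a.2 b.2 (by rw [hπ2 a, hπ2 b, e]))
  have hLyim : ∀ (m : G) (hm : m ∈ Ly), ∃ q, IsQ q ∧ pw W ⟨m, hLyC hm⟩ = P' (1, q) := by
    intro m hm
    set l : ↥L2 := ⟨n⁻¹ * m * n, hLym m hm⟩ with hl
    refine ⟨x2 * (π2 l).1 * x2⁻¹, by have := slq_conj x2⁻¹ _ (π2 l).2; rwa [inv_inv] at this, ?_⟩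
    have e : (⟨m, hLyC hm⟩ : ↥C) = nC * ⟨l, hLC l.2⟩ * nC⁻¹ := Subtype.ext (by
      show m = (nC : G) * (n⁻¹ * m * n) * (nC : G)⁻¹
      rw [hn]; group)
    rw [e, map_mul, map_mul, map_inv, hnC, hπ2, hnb, mul_inv_rev, inv_eq_of_mul_eq_one_right hP.u2,
      show P' (x2⁻¹, x2) * u * P' ((π2 l).1, 1) * (u * (P' (x2⁻¹, x2))⁻¹) =
        P' (x2⁻¹, x2) * (u * P' ((π2 l).1, 1) * u) * (P' (x2⁻¹, x2))⁻¹ by group, hP.swap, ← map_inv, ← map_mul,
      ← map_mul]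
    exact congrArg P' (Prod.ext (by simp) (by simp))
  have hcomm : ∀ l ∈ L2, ∀ m ∈ Ly, l * m = m * l := fun l hl m hm => by
    obtain ⟨q, -, e⟩ := hLyim m hm
    exact comm_of_pw hW3 (a := ⟨m, hLyC hm⟩) (b := ⟨l, hLC hl⟩) (n := 8) (by norm_num) (hLy8 m hm) (by
      rw [hπ2 ⟨l, hl⟩, e, ← map_mul, ← map_mul, Prod.mk_mul_mk, Prod.mk_mul_mk, one_mul, mul_one,
        one_mul, mul_one])
  have hliftQ : ∀ p q : SL3, IsQ p → IsQ q → ∃ l ∈ L2, ∃ m ∈ Ly, ∃ h : l * m ∈ C, pw W ⟨l * m, h⟩ = P' (p, q) := by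
    intro p q hp hq
    obtain ⟨l, hl⟩ := hπ2b.2 ⟨p, hp⟩
    obtain ⟨l', hl'⟩ := hπ2b.2 ⟨x2⁻¹ * q * x2, slq_conj x2 q hq⟩
    have hm : n * (l' : G) * n⁻¹ ∈ Ly := conj_mem_cj.2 l'.2
    refine ⟨l, l.2, _, hm, mul_mem (hLC l.2) (hLyC hm), ?_⟩
    obtain ⟨q', -, e⟩ := hLyim _ hm
    rw [show (⟨(l : G) * (n * l' * n⁻¹), _⟩ : ↥C) = ⟨l, hLC l.2⟩ * (nC * ⟨l', hLC l'.2⟩ * nC⁻¹) from rfl,
      map_mul, map_mul, map_mul, map_inv, hnC, hπ2, hπ2, hl, hl', hnb, mul_inv_rev,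
      inv_eq_of_mul_eq_one_right hP.u2,
      show P' (p, 1) * (P' (x2⁻¹, x2) * u * P' (x2⁻¹ * q * x2, 1) * (u * (P' (x2⁻¹, x2))⁻¹)) =
        P' (p, 1) * (P' (x2⁻¹, x2) * (u * P' (x2⁻¹ * q * x2, 1) * u) * (P' (x2⁻¹, x2))⁻¹) by group, hP.swap,
      ← map_inv, ← map_mul, ← map_mul, ← map_mul]
    exact congrArg P' (Prod.ext (by simp) (by simp [mul_assoc]))
  -- groups normalised by the image of `z`
  have hsigX : ∀ K : Subgroup (XW W), (Nat.card ↥K).Coprime 3 → (∀ v ∈ K, v * rb = rb * v) →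
      Pl.zb ∈ normalizer (K : Set (XW W)) → ∀ v ∈ K, ∃ x : SL3 × SL3, IsQ x.1 ∧ IsQ x.2 ∧ v = P' x := by
    intro K hK hKr hn g hgK
    obtain ⟨x, hx | hx⟩ := hP.all g (mem_top _) (hKr g hgK)
    · have h1' : g ^ Nat.card ↥K = 1 := congrArg Subtype.val (pow_card_eq_one' (x := (⟨g, hgK⟩ : ↥K)))
      have h12 : g ^ 12 = 1 := by
        rw [hx, ← map_pow, show x ^ 12 = 1 from Prod.ext (sl_eight x.1).2.2.1 (sl_eight x.2).2.2.1, map_one]
      have hd4 : orderOf g ∣ 4 := Nat.Coprime.dvd_of_dvd_mul_right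
        (Nat.Coprime.coprime_dvd_left (orderOf_dvd_of_pow_eq_one h1') hK)
        (show orderOf g ∣ 4 * 3 from orderOf_dvd_of_pow_eq_one h12)
      have h8 : g ^ 8 = 1 := orderOf_dvd_iff_pow_eq_one.1 (hd4.trans (by norm_num))
      rw [hx, ← map_pow] at h8
      rcases (hP.ker _).1 h8 with h | h
      · exact ⟨x, (sl_eight x.1).2.1 (congrArg Prod.fst h), (sl_eight x.2).2.1 (congrArg Prod.snd h), hx⟩
      · exact absurd (congrArg Prod.fst h) (sl_eight x.1).1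
    · exfalso
      set k := Pl.zb * g * Pl.zb⁻¹ * g⁻¹ with hk
      have hkK : k ∈ K := mul_mem ((mem_normalizer_iff.1 hn g).1 hgK) (inv_mem hgK)
      have hk' : k = P' ((1, a1) * x * (a1⁻¹, 1) * x⁻¹) := by
        have e1 : u * P' (1, a1⁻¹) * u = P' (a1⁻¹, 1) := hP.swap (1, a1⁻¹)
        rw [map_mul, map_mul, map_mul, ← e1, hk, hza, hx, ← map_inv,
          show ((1, a1) : SL3 × SL3)⁻¹ = (1, a1⁻¹) from Prod.ext inv_one rfl, mul_inv_rev,
          inv_eq_of_mul_eq_one_right hP.u2, ← map_inv]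
        group
      set w := (1, a1) * x * (a1⁻¹, 1) * x⁻¹ with hw
      have hw2 : w.2 = a1 := by simp [hw]
      have hw3 : w ^ 3 = 1 := by
        refine Prod.ext ?_ ?_
        · rw [Prod.pow_fst, hw]
          simp only [Prod.fst_mul, one_mul, Prod.fst_inv]
          rw [conj_pow, inv_pow, ha13, inv_one, mul_one, mul_inv_cancel]
          rfl
        · rw [Prod.pow_snd, hw2, ha13]; rfl
      have h3 : k ^ 3 = 1 := by rw [hk', ← map_pow, hw3, map_one]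
      have h4 : k ^ Nat.card ↥K = 1 := congrArg Subtype.val (pow_card_eq_one' (x := (⟨k, hkK⟩ : ↥K)))
      have h5 := pow_gcd_eq_one.2 ⟨h4, h3⟩
      rw [hK.gcd_eq_one, pow_one, hk'] at h5
      rcases (hP.ker _).1 h5 with e | e
      · exact ha1 (hw2 ▸ congrArg Prod.snd e)
      · exact sl_neg_mul_ne a1 ha13 ha1 (hw2 ▸ congrArg Prod.snd e)
  have hsig : ∀ K : Subgroup G, (Nat.card ↥K).Coprime 3 → K ≤ C ⊓ centralizer ({t2} : Set G) →
      z ∈ normalizer (K : Set G) → K ≤ L2 ⊔ Ly := by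
    intro K hK hle hn' g hg
    have hKC := hle.trans inf_le_left
    obtain ⟨⟨p, q⟩, hp, hq, e⟩ := hsigX ((K.subgroupOf C).map (pw W))
      (by
        refine Nat.Coprime.coprime_dvd_left ?_ hK
        rw [← Nat.card_congr (subgroupOfEquivOfLe hKC).toEquiv]
        exact Subgroup.card_map_dvd _ _)
      (by rintro _ ⟨k, hk, rfl⟩; exact hrcomm k (mem_centralizer_singleton_iff.1 (hle hk).2))
      (by
        refine Subgroup.mem_normalizer_fintype ?_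
        rintro _ ⟨k, hk, rfl⟩
        refine ⟨zC * k * zC⁻¹, (mem_normalizer_iff.1 hn' _).1 hk, ?_⟩
        show _ = pw W zC * pw W k * (pw W zC)⁻¹
        rw [← map_inv, ← map_mul, ← map_mul]) _ ⟨⟨g, hKC hg⟩, hg, rfl⟩
    obtain ⟨l, hl, m, hm, hlm, e'⟩ := hliftQ p q hp hq
    have hk := pw_eq (e'.trans e.symm)
    simp only at hk
    set k := (l * m)⁻¹ * g with hkd
    have hgc : g = l * m * k := by rw [hkd]; group
    have hcl : Commute (l * m) k := (mem_centralizer_iff.1 hlm k hk).symm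
    have hgn : g ^ Nat.card ↥K = 1 := congrArg Subtype.val (pow_card_eq_one' (x := (⟨g, hg⟩ : ↥K)))
    have hlm8 : (l * m) ^ 8 = 1 := by
      rw [(show Commute l m from hcomm l hl m hm).mul_pow, Pl.L2_eight hl, hLy8 m hm, one_mul]
    have h1 : k ^ (8 * Nat.card ↥K) = 1 := by
      have h2 : g ^ (8 * Nat.card ↥K) = 1 := by rw [mul_comm, pow_mul, hgn, one_pow]
      rwa [hgc, hcl.mul_pow, pow_mul (l * m), hlm8, one_pow, one_mul] at h2
    have h4 := pow_gcd_eq_one.2 ⟨h1, hW3 k hk⟩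
    rw [(Nat.Coprime.mul_left (by norm_num : Nat.Coprime 8 3) hK).gcd_eq_one, pow_one] at h4
    rw [hgc, h4, mul_one]
    exact mul_mem_sup hl hm
  -- the Frattini argument
  set A := AA P y t2 with hA
  have hAC : A ≤ C := Pl.A_cent
  have hzpow : ∀ i : ℕ, P' (1, a1 ^ i) = Pl.zb ^ i := fun i => by
    rw [hza, ← map_pow]; simp
  have hypow : ∀ i : ℕ, P' (p ^ i, 1) = yb ^ i := fun i => by
    rw [hybP, ← map_pow]; simp
  have hTA : ∀ b : ↥C, (∃ i k : ℕ, pw W b = yb ^ i * Pl.zb ^ k) → (b : G) ∈ A := by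
    rintro b ⟨i, k, e⟩
    have e2 : pw W b = pw W (yC ^ i * zC ^ k) := by rw [map_mul, map_pow, map_pow]; exact e
    have h1 := pw_eq e2.symm
    push_cast at h1
    have h2 : y ^ i * z ^ k * ((y ^ i * z ^ k)⁻¹ * (b : G)) ∈ A :=
      mul_mem (mul_mem (pow_mem D.y_A i) (pow_mem D.z_A k)) (Pl.le h1)
    rwa [mul_inv_cancel_left] at h2
  have hfrat : ∀ g ∈ C ⊓ centralizer ({t2} : Set G),
      ∃ s ∈ L2 ⊔ Ly, s⁻¹ * g ∈ normalizer (A : Set G) := by
    intro g hg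
    obtain ⟨hgC, hgt⟩ := mem_inf.1 hg
    set gC : ↥C := ⟨g, hgC⟩
    have hgr := hrcomm gC (mem_centralizer_singleton_iff.1 hgt)
    set gb := pw W gC with hgb
    have hconj : ∀ w : XW W, w * rb = rb * w → gb * w * gb⁻¹ * rb = rb * (gb * w * gb⁻¹) := fun w hw =>
      ((((show Commute gb rb from hgr)).mul_left (show Commute w rb from hw)).mul_left
        (show Commute gb rb from hgr).inv_left).eq
    obtain ⟨⟨p1, q1⟩, hp1', hq1, e1⟩ := hcube (gb * yb * gb⁻¹) (hconj yb hyr) (by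
      rw [conj_pow, hybP, ← map_pow, show ((p, 1) : SL3 × SL3) ^ 3 = 1 from Prod.ext hp3 (one_pow 3), map_one,
        mul_one, mul_inv_cancel])
    obtain ⟨⟨p2, q2⟩, hp2, hq2, e2⟩ := hcube (gb * Pl.zb * gb⁻¹) (hconj _ hzr) (by
      rw [conj_pow, hzc3, mul_one, mul_inv_cancel])
    simp only at hp1' hq1 hp2 hq2
    have hc := hPcomm (p1, q1) (p2, q2) (by
      rw [← e1, ← e2, show gb * yb * gb⁻¹ * (gb * Pl.zb * gb⁻¹) = gb * (yb * Pl.zb) * gb⁻¹ by group, hyz]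
      group)
    obtain ⟨qa, hqa, ⟨i1, h11⟩, ⟨i2, h12⟩⟩ := slq_pair p hp3 hp1 p1 p2 hp1' hp2 (hc.imp And.left And.left)
    obtain ⟨qb, hqb, ⟨k1, h21⟩, ⟨k2, h22⟩⟩ := slq_pair a1 ha13 ha1 q1 q2 hq1 hq2 (hc.imp And.right And.right)
    obtain ⟨l, hl, m, hm, hlm, es⟩ := hliftQ qa qb hqa hqb
    refine ⟨l * m, mul_mem_sup hl hm, Subgroup.mem_normalizer_fintype fun e he => ?_⟩
    obtain ⟨i, j, w, hw, rfl⟩ := Pl.mem_A' he
    set sC : ↥C := ⟨l * m, hlm⟩
    refine hTA (sC⁻¹ * gC * ⟨_, hAC he⟩ * (sC⁻¹ * gC)⁻¹) ?_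
    have hee : pw W ⟨_, hAC he⟩ = Pl.zb ^ (i : ℕ) * yb ^ (j : ℕ) := by
      rw [show (⟨_, hAC he⟩ : ↥C) = zC ^ (i : ℕ) * yC ^ (j : ℕ) * ⟨w, hAC (Pl.le hw)⟩ from Subtype.ext (by
        push_cast; rfl), map_mul, map_mul, map_pow, map_pow, pw_eq_one.2 (show ((⟨w, hAC (Pl.le hw)⟩ : ↥C) : G) ∈ W from hw),
        mul_one]
      rfl
    refine ⟨(i1 : ℕ) * j + i2 * i, (k1 : ℕ) * j + k2 * i, ?_⟩
    rw [← hypow, ← hzpow, ← map_mul, map_mul, map_mul, map_mul, map_inv, map_inv, map_mul, map_inv, hee, ← hgb,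
      es, mul_inv_rev, inv_inv,
      show (P' (qa, qb))⁻¹ * gb * (Pl.zb ^ (i : ℕ) * yb ^ (j : ℕ)) * (gb⁻¹ * P' (qa, qb)) =
        (P' (qa, qb))⁻¹ * ((gb * Pl.zb ^ (i : ℕ) * gb⁻¹) * (gb * yb ^ (j : ℕ) * gb⁻¹)) * P' (qa, qb) by group,
      ← conj_pow, ← conj_pow, e1, e2, ← map_pow, ← map_pow, ← map_mul, ← map_inv, ← map_mul, ← map_mul]
    refine congrArg P' (Prod.ext ?_ ?_)
    · simp only [Prod.fst_mul, Prod.fst_inv, Prod.pow_fst, h11, h12, conj_pow, mul_one]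
      rw [show qa⁻¹ * (qa * (p ^ (i2 : ℕ)) ^ (i : ℕ) * qa⁻¹ * (qa * (p ^ (i1 : ℕ)) ^ (j : ℕ) * qa⁻¹)) * qa =
        (p ^ (i2 : ℕ)) ^ (i : ℕ) * (p ^ (i1 : ℕ)) ^ (j : ℕ) by group, ← pow_mul, ← pow_mul, ← pow_add, add_comm]
    · simp only [Prod.snd_mul, Prod.snd_inv, Prod.pow_snd, h21, h22, conj_pow, one_mul]
      rw [show qb⁻¹ * (qb * (a1 ^ (k2 : ℕ)) ^ (i : ℕ) * qb⁻¹ * (qb * (a1 ^ (k1 : ℕ)) ^ (j : ℕ) * qb⁻¹)) * qb =
        (a1 ^ (k2 : ℕ)) ^ (i : ℕ) * (a1 ^ (k1 : ℕ)) ^ (j : ℕ) by group, ← pow_mul, ← pow_mul, ← pow_add, add_comm]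
  exact ⟨n,
    { data := D
      W_le := Pl.le
      W_card := Pl.card
      d_W := Pl.d_mem
      W_Q2 := Pl.centQ2
      W_L2 := fun w hw => mem_centralizer_iff.2 fun l hl => (mem_centralizer_iff.1 (Pl.L2_cent hl) w hw).symm
      n_W := hnW
      n_t2 := hnt
      n_z := hnz'
      n_y := hny'
      n_A := hnA
      comm := hcomm
      sig := hsig
      frat := hfrat }⟩

end Plane

/-- THEOREM: the plane and the exchange. -/
theorem exists_duo (D : BigData Z Q Q1 Q2 L1 L2 P t1 t2 z y g d a) :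
    ∃ (W : Subgroup G) (y' n : G), Duo Z Q Q1 Q2 L1 L2 P W t1 t2 z y' g d a n := by
  obtain ⟨W, Qy, Pl⟩ := D.plane
  obtain ⟨c, hcW, hct, hcy⟩ := Pl.exists_conj_fix
  rcases zp_cases D.set.Z_card D.z_mem D.z_ne hcy with e | e | e
  · exact absurd (conj_eq_one_iff.1 e) D.pt.ne_one
  · obtain ⟨n, U⟩ := Pl.exists_duo_of hcW hct e
    exact ⟨W, y, n, U⟩
  · obtain ⟨n, U⟩ := Pl.inv.exists_duo_of hcW hct (by rw [← conj_inv, e, inv_inv])
    exact ⟨W, y⁻¹, n, U⟩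

end Cfsg.Agent.UThreeLocal.Big.Local
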