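import Cfsg.Agent.Lib.UThreeLocal.Big.Local.Base

/-!
# The plane `W` of `A` centralising the inverted factors at both points

At `y` the involution `r` fixes both factors, centralises one and inverts the other, `Q_y`;
`W = C_A(Q₂) ∩ C_A(Q_y)` has order nine and contains `d`.
-/

set_option autoImplicit false
set_option linter.unusedSectionVars false
set_option linter.style.haveILetI false

namespace Cfsg.Agent.UThreeLocal.Big.Local

open Subgroup
open scoped commutatorElement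

universe u

variable {G : Type u} [Group G] [Finite G]

/-- An element commuting with an inverting involution and trivial modulo `Z` centralises. -/
theorem cent_of_triv_gen {Z Q R : Subgroup G} {r x : G} (h : Setting Z Q) (hRQ : R ≤ Q)
    (hrC : r ∈ centralizer (Z : Set G)) (hinv : ∀ u ∈ R, r * u * r⁻¹ * u ∈ Z) (hxC : x ∈ centralizer (Z : Set G))
    (hxr : x * r = r * x) (ht : Triv Z R x) {u : G} (hu : u ∈ R) : x * u = u * x := by
  have huQ := hRQ hu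
  set ζ := u⁻¹ * (x * u * x⁻¹) with hζ
  have hζZ : ζ ∈ Z := ht u hu
  set η := r * u * r⁻¹ * u with hη
  have hηZ : η ∈ Z := hinv u hu
  have e1 : x * u * x⁻¹ = u * ζ := by rw [hζ, mul_inv_cancel_left]
  have e2 : r * u * r⁻¹ = η * u⁻¹ := by rw [hη, mul_inv_cancel_right]
  clear_value ζ η
  have e3 : η * u⁻¹ * ζ = η * (ζ⁻¹ * u⁻¹) := by
    calc η * u⁻¹ * ζ = (r * u * r⁻¹) * (r * ζ * r⁻¹) := by rw [h.conj_Z hrC hζZ, e2]
      _ = r * (x * u * x⁻¹) * r⁻¹ := by rw [e1]; group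
      _ = (r * x) * u * (r * x)⁻¹ := by group
      _ = x * (r * u * r⁻¹) * x⁻¹ := by rw [← hxr]; group
      _ = (x * η * x⁻¹) * (x * u * x⁻¹)⁻¹ := by rw [e2]; group
      _ = _ := by rw [h.conj_Z hxC hηZ, e1, mul_inv_rev]
  rw [mul_assoc] at e3
  have e4 := mul_left_cancel e3
  rw [← h.comm_Z (inv_mem huQ) hζZ] at e4
  have h2 : ζ * ζ = 1 := by
    have e5 := mul_right_cancel e4
    nth_rewrite 1 [e5]
    exact inv_mul_cancel ζ
  have h3 := h.Z_cube hζZ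
  rw [pow_succ, pow_two, h2, one_mul] at h3
  rw [h3, mul_one] at e1
  exact mul_inv_eq_iff_eq_mul.1 e1

/-- The kernel on one factor of an abelian three-group of order 81 has order at least 27. -/
theorem card_triv_ge {Z Q Q1 Q2 L1 L2 : Subgroup G} {t1 t2 : G} (F : Frame Z Q Q1 Q2 L1 L2 t1 t2) {A : Subgroup G}
    (hA : Nat.card ↥A = 81) (hAC : A ≤ centralizer (Z : Set G)) :
    ∃ K ≤ A, 27 ≤ Nat.card ↥K ∧ ∀ x ∈ K, Triv Z Q1 x := by
  haveI : Fact (Nat.Prime 3) := ⟨Nat.prime_three⟩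
  obtain ⟨χ, hχ⟩ := F.exists_char (IsPGroup.of_card (n := 4) (by rw [hA]; norm_num)) hAC
  refine ⟨χ.ker.map A.subtype, map_subtype_le _, ?_, ?_⟩
  · rw [card_subtype]
    have h1 := χ.ker.card_mul_index
    rw [hA, index_ker] at h1
    have h2 := card_subgroup_dvd_card χ.range
    have h3 := Nat.le_of_dvd Nat.card_pos h2
    have h4 : Nat.card (Multiplicative (ZMod 3)) = 3 := by simp
    rw [h4] at h3
    nlinarith
  · rintro _ ⟨x, hx, rfl⟩
    exact (hχ x).1 hx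

namespace BigData

variable {Z Q Q1 Q2 L1 L2 P : Subgroup G} {t1 t2 z y g d a : G} (D : BigData Z Q Q1 Q2 L1 L2 P t1 t2 z y g d a)
include D

/-- What the quotient by `W` needs. -/
theorem exists_plane : ∃ (W Qy : Subgroup G), W ≤ AA P y t2 ∧ Nat.card ↥W = 9 ∧ d ∈ W ∧
    W ≤ centralizer (Q2 : Set G) ∧ W ≤ centralizer (Qy : Set G) ∧ z ∉ W ∧ y ∉ W ∧
    Qy ≤ centralizer ({y} : Set G) ∧ IsPGroup 3 ↥Qy ∧ BB P y ≤ normalizer (Qy : Set G) ∧
    729 ≤ Nat.card ↥(Qy ⊔ BB P y) := by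
  classical
  haveI : Fact (Nat.Prime 3) := ⟨Nat.prime_three⟩
  have h := D.set
  have F := D.frame
  have F' := F.conj g
  have h' := F'.set
  have hrC : t2 ∈ centralizer ((cj g Z : Subgroup G) : Set G) :=
    D.cent_y ▸ mem_centralizer_singleton_iff.2 D.y_t2
  have hBp : IsPGroup 3 ↥(BB P y) := D.P_pgroup.to_le inf_le_left
  obtain ⟨g0, hyg0, hzp0, -, -, hside, -, -⟩ := F.pt_side D.pt D.y_cent D.y_not
  have hcj : cj g0 Z = cj g Z := hzp0.symm.trans D.zpowers_y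
  have hzC' : z ∈ centralizer ((cj g Z : Subgroup G) : Set G) := hcj ▸ (hside z D.z_mem D.z_ne).1
  have hzZ' : z ∉ cj g Z := hcj ▸ (hside z D.z_mem D.z_ne).2.1
  have hzpt : IsPt (cj g Z) z := (IsPt.cj_iff g).2 (IsPt.of_mem D.z_mem D.z_ne)
  have hzB : z ∈ BB P y := D.W_le_B (h.Z_le_Fx D.y_cent D.z_mem)
  have hntz := F'.nontriv hzpt hzC' hzZ'
  obtain ⟨d', hd'⟩ := F'.exists_flag' hBp D.B_le_C'
  obtain ⟨a', ha'⟩ := F'.symm.exists_flag' hBp D.B_le_C'
  have hgood := F'.good hzpt hzC' hzZ' hBp D.B_le_C' hzB hd' ha'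
  set Q' := cj g Q with hQ'
  set W' := Fx Q' z with hW'
  have hW'c : Nat.card ↥W' = 27 := F'.card_Fx_pt hzpt hzC' hzZ'
  have hmemW' : ∀ {x : G}, x ∈ BB P y → x ∈ Q' → x ∈ W' := fun {x} hx hq => mem_Fx.2 ⟨hq, by
    rw [D.B_comm hzB hx, mul_inv_cancel_right]⟩
  have haB : a ∈ BB P y := D.W_le_B D.a_W
  have hdB : d ∈ BB P y := D.W_le_B D.d_W
  have haW' : a ∈ W' := hmemW' haB D.a_rad
  have hdW' : d ∈ W' := hmemW' hdB D.d_rad
  have hAC' : AA P y t2 ≤ centralizer ((cj g Z : Subgroup G) : Set G) := inf_le_left.trans D.B_le_C'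
  -- `r` fixes both factors
  have hfix : ((∀ x, x ∈ cj g Q1 ↔ t2 * x * t2⁻¹ ∈ cj g Q1) ∧ ∀ x, x ∈ cj g Q2 ↔ t2 * x * t2⁻¹ ∈ cj g Q2) := by
    refine (F'.perm t2 hrC).resolve_right fun hs => ?_
    obtain ⟨K, hKA, hK27, hKt⟩ := card_triv_ge F' D.card_A hAC'
    have hKQ : K ≤ W' := fun x hx => by
      have hxA := hKA hx
      refine hmemW' (mem_inf.1 hxA).1 (F'.mem_Q_of_triv (hAC' hxA) (hKt x hx) fun u hu => ?_)
      have hv : t2 * u * t2⁻¹ ∈ cj g Q1 := (hs.2 u).1 hu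
      have h1 := hKt x hx _ hv
      have e : u⁻¹ * (x * u * x⁻¹) = t2⁻¹ * ((t2 * u * t2⁻¹)⁻¹ * (x * (t2 * u * t2⁻¹) * x⁻¹)) * t2⁻¹⁻¹ := by
        calc u⁻¹ * (x * u * x⁻¹) = u⁻¹ * ((t2⁻¹ * (x * t2)) * u * (t2⁻¹ * (x * t2))⁻¹) := by
              rw [D.A_t2 hxA, inv_mul_cancel_left]
          _ = _ := by group
      rw [e, h'.conj_Z (inv_mem hrC) h1]
      exact h1
    have he := Subgroup.eq_of_le_of_card_ge hKQ (by rw [hW'c]; exact hK27)
    exact D.a_notA (hKA (he ▸ haW'))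
  have hti : t2 * t2 = 1 := D.t2_sq
  have hN1 : t2 ∈ normalizer ((cj g Q1 : Subgroup G) : Set G) := mem_normalizer_iff.2 hfix.1
  have hN2 : t2 ∈ normalizer ((cj g Q2 : Subgroup G) : Set G) := mem_normalizer_iff.2 hfix.2
  have hrne : t2 ∉ cj g Z := fun hm => by
    have h3 := h'.Z_cube hm
    rw [pow_succ, pow_two, hti, one_mul] at h3
    exact D.t2_ne h3
  have hnot : ¬ (t2 ∈ centralizer ((cj g Q1 : Subgroup G) : Set G) ∧ t2 ∈ centralizer ((cj g Q2 : Subgroup G) : Set G)) := by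
    rintro ⟨h1, h2⟩
    refine hrne (h'.cent ▸ mem_centralizer_iff.2 fun v hv => ?_)
    obtain ⟨p, hp, q, hq, rfl⟩ := F'.pair.dec v hv
    rw [mul_assoc, mem_centralizer_iff.1 h2 q hq, ← mul_assoc, mem_centralizer_iff.1 h1 p hp, mul_assoc]
  have hnot2 : ¬ ((∀ x ∈ cj g Q1, t2 * x * t2⁻¹ * x ∈ cj g Z) ∧ ∀ x ∈ cj g Q2, t2 * x * t2⁻¹ * x ∈ cj g Z) := by
    rintro ⟨h1, h2⟩
    obtain ⟨p, hp, q, hq, e⟩ := F'.pair.dec d D.d_rad
    have hp' := hfix.1 p |>.1 hp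
    have hd2 : t2 * d * t2⁻¹ * d ∈ cj g Z := by
      have e2 : t2 * d * t2⁻¹ * d = (t2 * p * t2⁻¹ * p) * (p⁻¹ * (t2 * q * t2⁻¹ * p) * q) := by rw [e]; group
      rw [e2, ← F'.pair.comm p hp _ ((hfix.2 q).1 hq), inv_mul_cancel_left]
      exact mul_mem (h1 p hp) (h2 q hq)
    rw [D.t2_fix D.flag1.mem, mul_inv_cancel_right] at hd2
    have hdZ : d ∈ cj g Z := by
      have h3 := D.d_cube
      rw [show d = (d * d)⁻¹ * d ^ 3 by rw [pow_succ, pow_two]; group, h3, mul_one]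
      exact inv_mem hd2
    exact D.d_ne (D.Q_inf_y (D.frame.pair.le1 D.flag1.mem) (D.zpowers_y ▸ hdZ))
  -- the inverted factor
  obtain ⟨R1, R2, M1, M2, s1, s2, T, hR1, hR2, hRn⟩ : ∃ (R1 R2 M1 M2 : Subgroup G) (s1 s2 : G),
      ∃ _ : Frame (cj g Z) Q' R1 R2 M1 M2 s1 s2, t2 ∈ centralizer (R1 : Set G) ∧
        (∀ x ∈ R2, t2 * x * t2⁻¹ * x ∈ cj g Z) ∧ ¬ Triv (cj g Z) R2 z := by
    rcases F'.pair.dichotomy h' hrC hN1 hti with h1 | h1
    · rcases F'.pair.symm.dichotomy h' hrC hN2 hti with h2 | h2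
      · exact absurd ⟨h1, h2⟩ hnot
      · exact ⟨_, _, _, _, _, _, F', h1, h2, hntz.2⟩
    · rcases F'.pair.symm.dichotomy h' hrC hN2 hti with h2 | h2
      · exact ⟨_, _, _, _, _, _, F'.symm, h2, h1, hntz.1⟩
      · exact absurd ⟨h1, h2⟩ hnot2
  have hR2Q : R2 ≤ Q' := T.pair.le2
  set A := AA P y t2 with hA
  set C2 := A ⊓ centralizer (Q2 : Set G) with hC2
  set Cy := A ⊓ centralizer (R2 : Set G) with hCy
  have h27a : 27 ≤ Nat.card ↥C2 := by
    obtain ⟨K, hKA, hK, hKt⟩ := card_triv_ge F.symm D.card_A D.A_le_C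
    exact hK.trans (Subgroup.card_le_of_le fun x hx => mem_inf.2 ⟨hKA hx, mem_centralizer_iff.2 fun u hu =>
      (D.cent_of_triv (hKA hx) (hKt x hx) hu).symm⟩)
  have h27b : 27 ≤ Nat.card ↥Cy := by
    obtain ⟨K, hKA, hK, hKt⟩ := card_triv_ge T.symm D.card_A hAC'
    exact hK.trans (Subgroup.card_le_of_le fun x hx => mem_inf.2 ⟨hKA hx, mem_centralizer_iff.2 fun u hu =>
      (cent_of_triv_gen T.set hR2Q hrC hR2 (hAC' (hKA hx)) (D.A_t2 (hKA hx)) (hKt x hx) hu).symm⟩)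
  have hyC2 : y ∉ C2 := fun hy => D.nontriv.2 fun u hu => by
    rw [← mem_centralizer_iff.1 (mem_inf.1 hy).2 u hu, mul_inv_cancel_right, inv_mul_cancel]; exact one_mem _
  have hzCy : z ∉ Cy := fun hz => hRn fun u hu => by
    rw [← mem_centralizer_iff.1 (mem_inf.1 hz).2 u hu, mul_inv_cancel_right, inv_mul_cancel]; exact one_mem _
  have hzC2 : z ∈ C2 := mem_inf.2 ⟨D.z_A, mem_centralizer_iff.2 fun u hu => (h.comm_Z (F.pair.le2 hu) D.z_mem).symm⟩
  have hdvd : ∀ {K : Subgroup G}, K ≤ A → ∃ k, k ≤ 4 ∧ Nat.card ↥K = 3 ^ k := fun {K} hK => by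
    obtain ⟨k, hk, e⟩ := (Nat.dvd_prime_pow Nat.prime_three).1 (show Nat.card ↥K ∣ 3 ^ 4 by
      rw [show (3 : ℕ) ^ 4 = Nat.card ↥A by rw [D.card_A]; norm_num]; exact card_dvd_of_le hK)
    exact ⟨k, hk, e⟩
  have hAnorm : ∀ {K M : Subgroup G}, K ≤ A → M ≤ A → M ≤ normalizer (K : Set G) := fun {K M} hK hM m hm =>
    Subgroup.mem_normalizer_fintype fun k hk => by
      rw [SetLike.mem_coe, D.A_comm (hM hm) (hK hk), mul_inv_cancel_right]; exact hk
  set W := C2 ⊓ Cy with hW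
  have hWc : Nat.card ↥W = 9 := by
    have hc := card_sup_mul_inf (A := C2) (B := Cy) (hAnorm inf_le_left inf_le_left)
    have h81 := Subgroup.card_le_of_le (sup_le inf_le_left inf_le_left : C2 ⊔ Cy ≤ A)
    rw [D.card_A] at h81
    obtain ⟨k, hk, ek⟩ := hdvd (inf_le_left : C2 ≤ A)
    have hk3 : k = 3 := by
      have : k ≠ 4 := fun e => hyC2 ((Subgroup.eq_of_le_of_card_ge (inf_le_left : C2 ≤ A)
        (by rw [D.card_A, ek, e]; norm_num)).ge D.y_A)
      have : 3 ≤ k := by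
        by_contra hlt
        rw [ek] at h27a
        interval_cases k <;> norm_num at h27a
      omega
    obtain ⟨j, hj, ej⟩ := hdvd (inf_le_left.trans inf_le_left : W ≤ A)
    have hj2 : j < 3 := by
      by_contra hge
      refine hzCy (((Subgroup.eq_of_le_of_card_ge (inf_le_left : W ≤ C2) ?_).ge hzC2).2)
      rw [ek, ej, hk3]
      exact Nat.pow_le_pow_right (by norm_num) (by omega)
    have h9 : 9 ≤ Nat.card ↥W := by
      rw [hW]
      nlinarith
    rw [ej] at h9 ⊢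
    interval_cases j <;> norm_num at *
  have hdW : d ∈ W := by
    refine mem_inf.2 ⟨mem_inf.2 ⟨D.d_A, mem_centralizer_iff.2 fun u hu => (F.pair.comm d D.flag1.mem u hu).symm⟩,
      mem_inf.2 ⟨D.d_A, ?_⟩⟩
    obtain ⟨p, hp, q, hq, e⟩ := T.pair.dec d D.d_rad
    have e1 : t2 * q * t2⁻¹ = q := by
      have h1 : t2 * (p * q) * t2⁻¹ = p * q := by rw [← e, D.t2_fix D.flag1.mem, mul_inv_cancel_right]
      have h2 : t2 * (p * q) * t2⁻¹ = p * (t2 * q * t2⁻¹) := by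
        calc t2 * (p * q) * t2⁻¹ = (t2 * p) * q * t2⁻¹ := by group
          _ = _ := by rw [← mem_centralizer_iff.1 hR1 p hp]; group
      exact mul_left_cancel (h2.symm.trans h1)
    have hqZ : q ∈ cj g Z := by
      have h1 := hR2 q hq
      rw [e1] at h1
      rw [show q = (q * q)⁻¹ * q ^ 3 by rw [pow_succ, pow_two]; group, T.cube q (hR2Q hq), mul_one]
      exact inv_mem h1
    refine mem_centralizer_iff.2 fun u hu => ?_
    rw [e, ← mul_assoc, ← T.pair.comm p hp u hu, mul_assoc, ← h'.comm_Z (hR2Q hu) hqZ, ← mul_assoc]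
  have hR2p : IsPGroup 3 ↥R2 := IsPGroup.of_card (n := 3) (by rw [T.pair.card2]; norm_num)
  have hBn : BB P y ≤ normalizer (R2 : Set G) := fun b hb => Subgroup.mem_normalizer_fintype fun x hx =>
    T.symm.conj_mem1 hBp D.B_le_C' hb hx
  refine ⟨W, R2, inf_le_left.trans inf_le_left, hWc, hdW, inf_le_left.trans inf_le_right,
    inf_le_right.trans inf_le_right, fun hz => hzCy hz.2, fun hy => hyC2 hy.1, ?_, hR2p, hBn, ?_⟩
  · exact D.cent_y ▸ (hR2Q.trans h'.Q_le)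
  · have hc := card_sup_mul_inf (A := R2) (B := BB P y) hBn
    have hi : Nat.card ↥(R2 ⊓ BB P y) ≤ 9 := by
      have hle : R2 ⊓ BB P y ≤ W' := fun x hx => hmemW' hx.2 (hR2Q hx.1)
      obtain ⟨k, hk, ek⟩ := (Nat.dvd_prime_pow Nat.prime_three).1 (show Nat.card ↥(R2 ⊓ BB P y) ∣ 3 ^ 3 by
        rw [show (3 : ℕ) ^ 3 = Nat.card ↥W' by rw [hW'c]; norm_num]; exact card_dvd_of_le hle)
      have : k ≠ 3 := by
        intro hk3
        have hdR : d ∈ R2 := ((Subgroup.eq_of_le_of_card_ge hle (by rw [hW'c, ek, hk3]; norm_num)).ge hdW').1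
        have h1 := hR2 d hdR
        rw [D.t2_fix D.flag1.mem, mul_inv_cancel_right] at h1
        have hdZ : d ∈ cj g Z := by
          rw [show d = (d * d)⁻¹ * d ^ 3 by rw [pow_succ, pow_two]; group, D.d_cube, mul_one]
          exact inv_mem h1
        exact D.d_ne (D.Q_inf_y (F.pair.le1 D.flag1.mem) (D.zpowers_y ▸ hdZ))
      rw [ek]
      exact le_trans (Nat.pow_le_pow_right (by norm_num) (show k ≤ 2 by omega)) (by norm_num)
    rw [T.pair.card2, D.card_B] at hc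
    nlinarith

end BigData

end Cfsg.Agent.UThreeLocal.Big.Local
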