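import Cfsg.Agent.Lib.UThreeLocal.Big.Local.Swap.Sylow
import Cfsg.Agent.Lib.UThreeLocal.Cand.Quot
import Cfsg.Agent.Lib.SpThreeCent.PartOne.Coords

/-!
# The group `C(W)/W`

The centralizer of the image of `z` has shape `3^(1+2) : SL₂(3)`, the image of `B` gives coordinates; there
is no inversion and the diagonal signs occur.
-/

set_option autoImplicit false
set_option linter.unusedSectionVars false
set_option linter.style.haveILetI false
set_option maxRecDepth 100000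
set_option synthInstance.maxSize 10000

namespace Cfsg.Agent.UThreeLocal.Big.Local

open Subgroup
open Cfsg.Agent.SpThreeCent
open Cfsg.Agent.NineSym (Mn Wt V3 InL Wok jM wM wact)
open Cfsg.Agent.PSpAmalgam (SL3)
open Cfsg.Agent.UThreeLocal.Cand (exists_sl_action centData_of exists_loc_of_data cd_false_fix wact_neg' zp_cases)

universe u

variable {G : Type u} [Group G]

instance sub_cent_normal (W : Subgroup G) : (W.subgroupOf (centralizer (W : Set G))).Normal :=
  ⟨fun x hx g => by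
    rw [mem_subgroupOf] at hx ⊢
    push_cast
    rw [← mem_centralizer_iff.1 g.2 _ hx, mul_inv_cancel_right]
    exact hx⟩

/-- The quotient `C(W)/W`. -/
abbrev XW (W : Subgroup G) : Type u :=
  ↥(centralizer (W : Set G)) ⧸ W.subgroupOf (centralizer (W : Set G))

/-- The projection. -/
abbrev pw (W : Subgroup G) : ↥(centralizer (W : Set G)) →* XW W := QuotientGroup.mk' _

theorem pw_surj (W : Subgroup G) : Function.Surjective (pw W) := QuotientGroup.mk'_surjective _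

theorem pw_eq_one {W : Subgroup G} {a : ↥(centralizer (W : Set G))} : pw W a = 1 ↔ (a : G) ∈ W :=
  (QuotientGroup.eq_one_iff a).trans mem_subgroupOf

theorem pw_eq {W : Subgroup G} {a b : ↥(centralizer (W : Set G))} (e : pw W a = pw W b) : (a : G)⁻¹ * b ∈ W :=
  mem_subgroupOf.1 (QuotientGroup.eq.1 e)

/-- Commuting modulo `W` is commuting, for an element of order prime to `3`. -/
theorem comm_of_pw {W : Subgroup G} (hW3 : ∀ w ∈ W, w ^ 3 = 1) {a b : ↥(centralizer (W : Set G))} {n : ℕ}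
    (hn : Nat.Coprime n 3) (ha : (a : G) ^ n = 1) (e : pw W b * pw W a = pw W a * pw W b) :
    (b : G) * a = a * b := by
  rw [← map_mul, ← map_mul] at e
  have h := pw_eq e.symm
  push_cast at h
  set k := ((a : G) * b)⁻¹ * ((b : G) * a) with hk
  have hbk : (b : G) * k = k * b := (mem_centralizer_iff.1 b.2 k h).symm
  have hak : (a : G) * k = k * a := (mem_centralizer_iff.1 a.2 k h).symm
  have e1 : (b : G) * a * (b : G)⁻¹ = (a : G) * k := by
    calc (b : G) * a * (b : G)⁻¹ = (a : G) * ((b : G) * k) * (b : G)⁻¹ := by rw [hk]; group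
      _ = _ := by rw [hbk]; group
  have e2 : ((b : G) * a * (b : G)⁻¹) ^ n = 1 := by rw [conj_pow, ha, mul_one, mul_inv_cancel]
  rw [e1, (show Commute (a : G) k from hak).mul_pow, ha, one_mul] at e2
  have e4 := pow_gcd_eq_one.2 ⟨e2, hW3 k h⟩
  rw [hn.gcd_eq_one, pow_one] at e4
  rw [e4, mul_one] at e1
  exact mul_inv_eq_iff_eq_mul.1 e1

variable [Finite G] {Z Q Q1 Q2 L1 L2 P W Qy : Subgroup G} {t1 t2 z y g d a : G}

namespace Plane

variable (Pl : Plane Z Q Q1 Q2 L1 L2 P W Qy t1 t2 z y g d a)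
include Pl

/-- The image of `z`. -/
def zb : XW W := pw W ⟨z, Pl.A_cent Pl.data.z_A⟩

/-- The image of `B`. -/
def Jb (_Pl : Plane Z Q Q1 Q2 L1 L2 P W Qy t1 t2 z y g d a) : Subgroup (XW W) :=
  ((BB P y).subgroupOf (centralizer (W : Set G))).map (pw W)

/-- The image of `Q₂`. -/
def Rb (_Pl : Plane Z Q Q1 Q2 L1 L2 P W Qy t1 t2 z y g d a) : Subgroup (XW W) :=
  (Q2.subgroupOf (centralizer (W : Set G))).map (pw W)

theorem mem_Jb {x : ↥(centralizer (W : Set G))} : pw W x ∈ Pl.Jb ↔ (x : G) ∈ BB P y := by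
  refine ⟨fun ⟨b, hb, e⟩ => ?_, fun h => ⟨x, h, rfl⟩⟩
  have h1 : (b : G) * ((b : G)⁻¹ * x) ∈ BB P y := mul_mem hb (Pl.le_B (pw_eq e))
  rwa [mul_inv_cancel_left] at h1

/-- The centralizer of the image of `z` comes from `C(Z)`. -/
theorem cent_zb {x : XW W} (hx : x * Pl.zb = Pl.zb * x) :
    ∃ b : ↥(centralizer (W : Set G)), pw W b = x ∧ (b : G) ∈ centralizer (Z : Set G) := by
  obtain ⟨b, rfl⟩ := pw_surj W x
  refine ⟨b, rfl, Pl.data.mem_CZ ?_⟩
  unfold zb at hx
  rw [← map_mul, ← map_mul] at hx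
  have h := pw_eq hx
  push_cast at h
  have hp : IsPt Z (z * (((b : G) * z)⁻¹ * (z * b))) := by
    have h1 := (IsPt.of_mem Pl.data.z_mem Pl.data.z_ne).conj (b : G)⁻¹
    have e : z * (((b : G) * z)⁻¹ * (z * b)) = (b : G)⁻¹ * z * (b : G)⁻¹⁻¹ := by group
    rwa [e]
  exact (inv_mul_eq_one.1 (Pl.pt_zW h hp))

theorem centData : CentData Pl.zb Pl.Rb := by
  have D := Pl.data
  have F := D.frame
  set K := centralizer (Z : Set G) ⊓ centralizer (W : Set G) with hK
  have hQK : Q2 ≤ K := fun x hx => ⟨D.set.Q_le (F.pair.le2 hx), Pl.Q2_cent hx⟩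
  have hKN : K ≤ normalizer (Q2 : Set G) := fun c hc => by
    refine mem_normalizer_iff.2 ((F.perm c hc.1).resolve_right fun hs => ?_).2
    have h2 := (hs.1 d).1 D.flag1.mem
    rw [← mem_centralizer_iff.1 hc.2 d Pl.d_mem, mul_inv_cancel_right] at h2
    exact D.flag1.notZ (F.not_swap_both D.flag1.mem h2)
  set f : ↥K →* XW W := (pw W).comp (Subgroup.inclusion inf_le_right) with hf
  have hyK : y ∈ K := ⟨D.y_cent, Pl.A_cent D.y_A⟩
  have hLK : L2 ≤ K := fun l hl => ⟨F.L2_le hl, Pl.L2_cent hl⟩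
  have hWt : ∀ {x : G}, x ∈ W → Triv Z Q2 x := fun {x} hx u hu => by
    rw [← mem_centralizer_iff.1 (Pl.centQ2 hx) u hu, mul_inv_cancel_right, inv_mul_cancel]; exact one_mem _
  have key := centData_of F D.z_mem D.z_ne (K := K) inf_le_left hKN hQK f
    (fun x hx e => by
      have hxW := pw_eq_one.1 e
      have hxr : x * t2 = t2 * x := D.A_t2 (Pl.le hxW)
      have h1 := F.t2_inv x hx
      rw [← hxr, mul_inv_cancel_right] at h1
      refine Pl.W_inf_Z hxW ?_
      rw [show x = (x * x)⁻¹ * x ^ 3 by rw [pow_succ, pow_two]; group, F.cube x (F.pair.le2 hx), mul_one]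
      exact inv_mem h1)
    (fun x hx => by
      obtain ⟨b, rfl, hbC⟩ := Pl.cent_zb hx
      exact ⟨⟨b, hbC, b.2⟩, rfl⟩)
    (fun k hk => hWt (pw_eq_one.1 hk))
    (fun k hk => ?_)
    ⟨L2, hLK, F.L2_card, fun l hl ht => ?_⟩
    ⟨y, hyK, D.y_cube, D.nontriv.2⟩
  · have hR : (Q2.subgroupOf K).map f = Pl.Rb := by
      ext x
      constructor
      · rintro ⟨k, hk, rfl⟩; exact ⟨_, hk, rfl⟩
      · rintro ⟨b, hb, rfl⟩; exact ⟨⟨b, hQK hb⟩, hb, rfl⟩
    exact hR ▸ key
  · obtain ⟨v, hv, x, hx, e⟩ := Pl.dec_P (Pl.mem_P_triv k.2.1 k.2.2 hk) k.2.2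
    have hxt : Triv Z Q2 x := fun u hu => by
      have hvC : v ∈ centralizer (Z : Set G) := D.set.Q_le (F.pair.le2 hv)
      have h1 := hk u hu
      rw [e, shift_mul] at h1
      have hvt := F.triv_Q (F.pair.le2 hv) F.pair.le2 u hu
      rw [mul_mem_cancel_left hvt] at h1
      have h2 := D.set.conj_Z (inv_mem hvC) h1
      rw [show v⁻¹ * (v * (u⁻¹ * (x * u * x⁻¹)) * v⁻¹) * v⁻¹⁻¹ = u⁻¹ * (x * u * x⁻¹) by group] at h2
      exact h2 ▸ h1
    obtain ⟨i, w, hw, ex⟩ := Pl.mem_zW hx hxt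
    have hvz : v * z ^ (i : ℕ) ∈ Q2 := mul_mem hv (pow_mem (F.pair.Z2 D.z_mem) _)
    refine ⟨⟨v * z ^ (i : ℕ), hQK hvz⟩, hvz, QuotientGroup.eq.2 ?_⟩
    rw [mem_subgroupOf]
    show (v * z ^ (i : ℕ))⁻¹ * (k : G) ∈ W
    rw [e, ex, show (v * z ^ (i : ℕ))⁻¹ * (v * (z ^ (i : ℕ) * w)) = w by group]
    exact hw
  · have h1 : Triv Z Q1 l := fun x hx => by
      rw [← mem_centralizer_iff.1 (F.L2_cent hl) x hx, mul_inv_cancel_right, inv_mul_cancel]
      exact one_mem Z
    have := pow_gcd_eq_one.2 ⟨Pl.L2_eight hl, F.cube l (F.mem_Q_of_triv (F.L2_le hl) h1 ht)⟩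
    rwa [show Nat.gcd 8 3 = 1 from rfl, pow_one] at this

theorem jData : JData Pl.zb Pl.Rb Pl.Jb := by
  have D := Pl.data
  refine ⟨?_, ?_, ?_, ?_⟩
  · rintro _ ⟨x, hx, rfl⟩
    refine mem_centralizer_singleton_iff.2 ?_
    show pw W x * pw W _ = pw W _ * pw W x
    rw [← map_mul, ← map_mul]
    exact congrArg _ (Subtype.ext (D.B_comm hx (mem_inf.1 D.z_A).1))
  · rintro _ ⟨x, hx, rfl⟩ _ ⟨b, hb, rfl⟩
    rw [← map_mul, ← map_mul]
    exact congrArg _ (Subtype.ext (D.B_comm hx hb))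
  · rintro _ ⟨x, hx, rfl⟩
    rw [← map_pow, show x ^ 3 = 1 from Subtype.ext (D.B_exp hx), map_one]
  · set f : ↥(BB P y) →* XW W := (pw W).comp (Subgroup.inclusion Pl.B_cent) with hf
    have hr : f.range = Pl.Jb := by
      ext x
      constructor
      · rintro ⟨e, rfl⟩; exact ⟨_, e.2, rfl⟩
      · rintro ⟨b, hb, rfl⟩; exact ⟨⟨b, hb⟩, rfl⟩
    have hk : f.ker = W.subgroupOf (BB P y) := by
      ext e
      rw [MonoidHom.mem_ker, mem_subgroupOf]
      exact pw_eq_one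
    have hcm := f.ker.card_mul_index
    rw [Subgroup.index_ker, hr, hk, Nat.card_congr (subgroupOfEquivOfLe Pl.le_B).toEquiv,
      D.card_B, Pl.card] at hcm
    omega

theorem sigX (K : Subgroup (XW W)) (hK : (Nat.card K).Coprime 3) (hn : Pl.Jb ≤ normalizer (K : Set (XW W))) :
    K = ⊥ := by
  classical
  have D := Pl.data
  set C := centralizer (W : Set G) with hC
  set M0 := K.comap (pw W) with hM0
  set f : ↥M0 →* XW W := (pw W).comp M0.subtype with hf
  have hr : f.range = K := by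
    ext x
    constructor
    · rintro ⟨b, rfl⟩; exact b.2
    · intro hx
      obtain ⟨b, rfl⟩ := pw_surj W x
      exact ⟨⟨b, hx⟩, rfl⟩
  have hk9 : Nat.card ↥f.ker = 9 := by
    rw [← Pl.card]
    refine Nat.card_congr (Equiv.ofBijective
      (fun b : ↥f.ker => (⟨((b : ↥M0) : ↥C), pw_eq_one.1 b.2⟩ : ↥W)) ⟨fun b c e => ?_, fun w => ?_⟩)
    · exact Subtype.ext (Subtype.ext (Subtype.ext (congrArg (fun q : ↥W => (q : G)) e)))
    · have hw : (w : G) ∈ C := Pl.A_cent (Pl.le w.2)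
      exact ⟨⟨⟨⟨w, hw⟩, show pw W ⟨w, hw⟩ ∈ K by rw [pw_eq_one.2 w.2]; exact one_mem K⟩, pw_eq_one.2 w.2⟩, rfl⟩
  have hidx : f.ker.index = Nat.card K := by rw [Subgroup.index_ker, hr]
  obtain ⟨M, hM⟩ := exists_right_complement'_of_coprime (N := f.ker) (by
    rw [hk9, hidx]; exact (Nat.Coprime.pow_left 2 hK.symm : Nat.Coprime (3 ^ 2) _))
  have hMc : Nat.card ↥M = Nat.card K := by rw [← hidx]; exact hM.symm.index_eq_card.symm
  have hmem : ∀ x : ↥M0, x ∈ M ↔ x ^ Nat.card K = 1 := by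
    intro x
    constructor
    · intro hx
      have := pow_card_eq_one' (x := (⟨x, hx⟩ : ↥M))
      rw [hMc] at this
      exact congrArg Subtype.val this
    · intro hx
      obtain ⟨⟨⟨k, hk⟩, ⟨m, hm⟩⟩, e⟩ := hM.2 x
      simp only at e
      have hkc : Commute k m := by
        refine Subtype.ext (Subtype.ext ?_)
        show ((k : ↥C) : G) * ((m : ↥C) : G) = ((m : ↥C) : G) * ((k : ↥C) : G)
        exact mem_centralizer_iff.1 (m : ↥C).2 _ (pw_eq_one.1 (MonoidHom.mem_ker.1 hk))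
      have hm1 : m ^ Nat.card K = 1 := by
        have := pow_card_eq_one' (x := (⟨m, hm⟩ : ↥M))
        rw [hMc] at this
        exact congrArg Subtype.val this
      rw [← e, hkc.mul_pow, hm1, mul_one] at hx
      have hk3 : k ^ 3 = 1 := Subtype.ext (Subtype.ext (by
        push_cast
        exact Pl.cube (pw_eq_one.1 (MonoidHom.mem_ker.1 hk))))
      have := pow_gcd_eq_one.2 ⟨hx, hk3⟩
      rw [hK.gcd_eq_one, pow_one] at this
      rw [← e, this, one_mul]; exact hm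
  set MG := M.map (C.subtype.comp M0.subtype) with hMG
  have hinjP : Function.Injective (C.subtype.comp M0.subtype) := fun b c e =>
    Subtype.ext (Subtype.ext e)
  have hMG1 : MG = ⊥ := by
    refine D.sig MG ?_ ?_
    · rw [hMG, card_map_of_injective hinjP, hMc]
      exact hK
    · intro e he
      have heB := D.E_le_B he
      refine Subgroup.mem_normalizer_fintype ?_
      rintro _ ⟨x, hx, rfl⟩
      set eC : ↥C := ⟨e, Pl.B_cent heB⟩ with heC
      have hPm : eC * (x : ↥C) * eC⁻¹ ∈ M0 := by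
        show pw W _ ∈ K
        rw [map_mul, map_mul, map_inv]
        exact (mem_normalizer_iff.1 (hn (Pl.mem_Jb.2 (show (eC : G) ∈ BB P y from heB))) _).1 x.2
      refine ⟨⟨_, hPm⟩, (hmem _).2 (Subtype.ext ?_), rfl⟩
      push_cast
      rw [conj_pow]
      have := congrArg Subtype.val ((hmem x).1 hx)
      push_cast at this
      rw [this, mul_one, mul_inv_cancel]
  have hMb : M = ⊥ := (map_eq_bot_iff_of_injective M hinjP).1 hMG1
  rw [hMb, card_bot] at hMc
  exact Subgroup.card_eq_one.1 hMc.symm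

theorem zb_inv_ne {x : XW W} : x * Pl.zb * x⁻¹ ≠ Pl.zb⁻¹ := by
  intro e
  obtain ⟨b, rfl⟩ := pw_surj W x
  unfold zb at e
  rw [← map_inv, ← map_mul, ← map_mul, ← map_inv] at e
  have h := pw_eq e.symm
  push_cast at h
  rw [inv_inv] at h
  -- `b z b⁻¹ ∈ z⁻¹ W` is a point, so equal to `z⁻¹`
  have hp : IsPt Z (z * (z * ((b : G) * z * (b : G)⁻¹))⁻¹) := by
    rw [mul_inv_rev, ← mul_assoc]
    have h1 := (IsPt.of_mem (inv_mem Pl.data.z_mem) (inv_ne_one.2 Pl.data.z_ne)).conj (b : G)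
    rw [show z * ((b : G) * z * (b : G)⁻¹)⁻¹ * z⁻¹ = z * (((b : G) * z⁻¹ * (b : G)⁻¹)) * z⁻¹ by group]
    exact h1.conj z
  have h2 := Pl.pt_zW (inv_mem h) hp
  rw [inv_eq_one] at h2
  exact Pl.not_real b.2 (eq_inv_of_mul_eq_one_right h2)

/-- The coordinates of `C(W)/W`: no inversion, the diagonal signs occur. -/
theorem exists_loc : ∃ φ : Mn → XW W, Loc Pl.zb Pl.Rb Pl.Jb false true φ := by
  have D := Pl.data
  obtain ⟨ci, cd, φ, L⟩ := exists_loc_of_data Pl.centData Pl.jData Pl.sigX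
  obtain rfl : ci = false := L.ci_false fun _ => Pl.zb_inv_ne
  cases cd
  swap
  · exact ⟨φ, L⟩
  exfalso
  obtain ⟨c, hcW, hcy⟩ := Pl.exists_conj
  set cC : ↥(centralizer (W : Set G)) := ⟨c, hcW⟩
  set yC : ↥(centralizer (W : Set G)) := ⟨y, Pl.A_cent D.y_A⟩
  obtain ⟨v, hv⟩ := (L.memJ _).1 (Pl.mem_Jb.2 (show (yC : G) ∈ BB P y from D.y_B))
  have hw : ∃ u : V3, (u = (1, 1, 1) ∨ u = -(1, 1, 1)) ∧ pw W cC * pw W yC * (pw W cC)⁻¹ = φ (jM u) := by
    rcases zp_cases D.set.Z_card D.z_mem D.z_ne hcy with e | e | e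
    · exact absurd (conj_eq_one_iff.1 e) D.pt.ne_one
    · exact ⟨_, Or.inl rfl, by rw [L.a_eq, ← map_inv, ← map_mul, ← map_mul]; exact congrArg _ (Subtype.ext e)⟩
    · refine ⟨_, Or.inr rfl, ?_⟩
      rw [L.jneg, L.a_eq, ← map_inv, ← map_mul, ← map_mul]
      unfold zb
      rw [← map_inv]
      exact congrArg _ (Subtype.ext e)
  obtain ⟨u, hu, e⟩ := hw
  rw [← hv] at e
  obtain ⟨p, hp, hpv⟩ := L.fus u v (pw W cC)⁻¹ (by rw [← e]; group)
  have hv1 : v = (1, 1, 1) ∨ v = -(1, 1, 1) := by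
    rcases cd_false_fix false p.w hp with h | h <;> rcases hu with rfl | rfl
    · exact Or.inl (hpv ▸ h)
    · exact Or.inr (by rw [← hpv, wact_neg', h])
    · exact Or.inr (hpv ▸ h)
    · exact Or.inl (by rw [← hpv, wact_neg', h, neg_neg])
  have hzy : pw W yC = Pl.zb ∨ pw W yC = Pl.zb⁻¹ := by
    rcases hv1 with rfl | rfl
    · exact Or.inl (by rw [← hv, L.a_eq])
    · exact Or.inr (by rw [← hv, L.jneg, L.a_eq])
  refine D.nontriv.2 fun x hx => ?_
  have hcomm : ∀ k : G, k ∈ centralizer (Q2 : Set G) → x⁻¹ * (k * x * k⁻¹) ∈ Z := fun k hk => by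
    rw [← mem_centralizer_iff.1 hk x hx, mul_inv_cancel_right, inv_mul_cancel]; exact one_mem _
  have hzQ : z ∈ centralizer (Q2 : Set G) :=
    mem_centralizer_iff.2 fun u hu => (D.set.comm_Z (D.frame.pair.le2 hu) D.z_mem).symm
  refine hcomm y ?_
  rcases hzy with e1 | e1
  · have h1 := pw_eq e1.symm
    have h2 := mul_mem hzQ (Pl.centQ2 h1)
    rwa [mul_inv_cancel_left] at h2
  · unfold zb at e1
    rw [← map_inv] at e1
    have h1 := pw_eq e1.symm
    have h2 := mul_mem (inv_mem hzQ) (Pl.centQ2 h1)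
    push_cast at h2
    rwa [mul_inv_cancel_left] at h2

end Plane

end Cfsg.Agent.UThreeLocal.Big.Local
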