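import Cfsg.Agent.Lib.UThreeLocal.Big.Local.Swap.Plane
import Cfsg.Agent.Lib.UThreeLocal.Big.Local.Tools

/-!
# The Sylow subgroup `Q₂A` of `C(W)` and the fusion of `y` into `Z`
-/

set_option autoImplicit false
set_option linter.unusedSectionVars false
set_option linter.style.haveILetI false

namespace Cfsg.Agent.UThreeLocal.Big.Local

open Subgroup
open scoped commutatorElement
open Cfsg.Agent.UThreeLocal.Cand (zp_cases)

universe u

variable {G : Type u} [Group G] [Finite G]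

/-- The plane with its properties. -/
structure Plane (Z Q Q1 Q2 L1 L2 P W Qy : Subgroup G) (t1 t2 z y g d a : G) : Prop where
  data : BigData Z Q Q1 Q2 L1 L2 P t1 t2 z y g d a
  le : W ≤ AA P y t2
  card : Nat.card ↥W = 9
  d_mem : d ∈ W
  centQ2 : W ≤ centralizer (Q2 : Set G)
  centQy : W ≤ centralizer (Qy : Set G)
  z_not : z ∉ W
  y_not : y ∉ W
  Qy_le : Qy ≤ centralizer ({y} : Set G)
  Qy_three : IsPGroup 3 ↥Qy
  B_norm : BB P y ≤ normalizer (Qy : Set G)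
  big : 729 ≤ Nat.card ↥(Qy ⊔ BB P y)

theorem BigData.plane {Z Q Q1 Q2 L1 L2 P : Subgroup G} {t1 t2 z y g d a : G}
    (D : BigData Z Q Q1 Q2 L1 L2 P t1 t2 z y g d a) :
    ∃ W Qy, Plane Z Q Q1 Q2 L1 L2 P W Qy t1 t2 z y g d a := by
  obtain ⟨W, Qy, h1, h2, h3, h4, h5, h6, h7, h8, h9, h10, h11⟩ := D.exists_plane
  exact ⟨W, Qy, D, h1, h2, h3, h4, h5, h6, h7, h8, h9, h10, h11⟩

namespace Plane

variable {Z Q Q1 Q2 L1 L2 P W Qy : Subgroup G} {t1 t2 z y g d a : G}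
  (Pl : Plane Z Q Q1 Q2 L1 L2 P W Qy t1 t2 z y g d a)
include Pl

theorem le_B : W ≤ BB P y := Pl.le.trans inf_le_left

theorem cube {w : G} (hw : w ∈ W) : w ^ 3 = 1 := Pl.data.A_exp (Pl.le hw)

theorem W_inf_Z {x : G} (hx : x ∈ W) (hxZ : x ∈ Z) : x = 1 := by
  by_contra hx1
  exact Pl.z_not ((zpowers_le.2 hx) (by
    rw [zpowers_eq_of_prime Pl.data.set.Z_card hxZ hx1]; exact Pl.data.z_mem))

theorem A_cent : AA P y t2 ≤ centralizer (W : Set G) := fun x hx =>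
  mem_centralizer_iff.2 fun w hw => Pl.data.A_comm (Pl.le hw) hx

theorem B_cent : BB P y ≤ centralizer (W : Set G) := fun x hx =>
  mem_centralizer_iff.2 fun w hw => Pl.data.B_comm (Pl.le_B hw) hx

theorem Q2_cent : Q2 ≤ centralizer (W : Set G) := fun v hv =>
  mem_centralizer_iff.2 fun w hw => (mem_centralizer_iff.1 (Pl.centQ2 hw) v hv).symm

theorem L2_eight {l : G} (hl : l ∈ L2) : l ^ 8 = 1 := by
  have h := pow_card_eq_one' (x := (⟨l, hl⟩ : ↥L2))
  rw [Pl.data.frame.L2_card] at h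
  simpa using congrArg Subtype.val h

/-- `L₂` centralises `W`. -/
theorem L2_cent : L2 ≤ centralizer (W : Set G) := by
  intro l hl
  have D := Pl.data
  have F := D.frame
  have h := D.set
  refine mem_centralizer_iff.2 fun w hw => ?_
  have hwA := Pl.le hw
  have hwC := D.A_le_C hwA
  have hlC := F.L2_le hl
  set c := w * l * w⁻¹ * l⁻¹ with hc
  have hcZ : c ∈ Z := by
    rw [← h.cent]
    refine mem_centralizer_iff.2 fun q hq => ?_
    obtain ⟨u, hu, v, hv, rfl⟩ := F.pair.dec q hq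
    have hc1 : c * u * c⁻¹ = u := by
      have hwu : w⁻¹ * u * w ∈ Q1 := by
        have := F.conj_mem1 D.P_pgroup D.P_le (inv_mem (D.A_le_P hwA)) hu
        rwa [inv_inv] at this
      have e1 : l⁻¹ * u * l = u := by
        rw [mul_assoc, mem_centralizer_iff.1 (F.L2_cent hl) u hu, inv_mul_cancel_left]
      have e2 : l * (w⁻¹ * u * w) * l⁻¹ = w⁻¹ * u * w := by
        rw [← mem_centralizer_iff.1 (F.L2_cent hl) _ hwu, mul_inv_cancel_right]
      calc c * u * c⁻¹ = w * (l * (w⁻¹ * (l⁻¹ * u * l) * w) * l⁻¹) * w⁻¹ := by rw [hc]; group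
        _ = u := by rw [e1, e2]; group
    have hc2 : c * v * c⁻¹ = v := by
      have hlv : l⁻¹ * v * l ∈ Q2 := by
        have := (mem_normalizer_iff.1 (inv_mem (F.L2_norm hl)) v).1 hv
        rwa [inv_inv] at this
      have hw2 : ∀ x ∈ Q2, w * x * w⁻¹ = x := fun x hx => by
        rw [← mem_centralizer_iff.1 (Pl.centQ2 hw) x hx, mul_inv_cancel_right]
      have hw3 : ∀ x ∈ Q2, w⁻¹ * x * w = x := fun x hx => by
        rw [mul_assoc, mem_centralizer_iff.1 (Pl.centQ2 hw) x hx, inv_mul_cancel_left]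
      calc c * v * c⁻¹ = w * (l * (w⁻¹ * (l⁻¹ * v * l) * w) * l⁻¹) * w⁻¹ := by rw [hc]; group
        _ = v := by
          rw [hw3 _ hlv, show l * (l⁻¹ * v * l) * l⁻¹ = v by group, hw2 v hv]
    have e : c * (u * v) * c⁻¹ = u * v := by
      rw [show c * (u * v) * c⁻¹ = (c * u * c⁻¹) * (c * v * c⁻¹) by group, hc1, hc2]
    exact (mul_inv_eq_iff_eq_mul.1 e).symm
  have e : w * l * w⁻¹ = c * l := by rw [hc]; group
  have h8 : (c * l) ^ 8 = 1 := by rw [← e, conj_pow, Pl.L2_eight hl, mul_one, mul_inv_cancel]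
  rw [(show Commute c l from mem_centralizer_iff.1 hlC c hcZ).mul_pow, Pl.L2_eight hl, mul_one] at h8
  have h3 := pow_gcd_eq_one.2 ⟨h8, h.Z_cube hcZ⟩
  rw [show Nat.gcd 8 3 = 1 from rfl, pow_one] at h3
  rw [h3, one_mul] at e
  exact mul_inv_eq_iff_eq_mul.1 e

/-- The elements of `A` are `z^i y^j w`. -/
theorem mem_A' {x : G} (hx : x ∈ AA P y t2) :
    ∃ i j : Fin 3, ∃ w ∈ W, x = z ^ (i : ℕ) * y ^ (j : ℕ) * w := by
  classical
  haveI : Fact (Nat.Prime 3) := ⟨Nat.prime_three⟩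
  have D := Pl.data
  set f : Fin 3 × Fin 3 × ↥W → ↥(AA P y t2) := fun p =>
    ⟨z ^ (p.1 : ℕ) * y ^ (p.2.1 : ℕ) * p.2.2,
      mul_mem (mul_mem (pow_mem D.z_A _) (pow_mem D.y_A _)) (Pl.le p.2.2.2)⟩ with hf
  have hy2 : ∀ j : ℕ, y ^ j ∈ centralizer (Q2 : Set G) → y ^ j = 1 := by
    intro j hj
    rw [pow_eq_pow_mod j D.y_cube] at hj ⊢
    rcases (by omega : j % 3 = 0 ∨ j % 3 = 1 ∨ j % 3 = 2) with e | e | e <;> rw [e] at hj ⊢
    · rw [pow_zero]
    · rw [pow_one] at hj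
      exact absurd (fun u hu => by
        rw [← mem_centralizer_iff.1 hj u hu, mul_inv_cancel_right, inv_mul_cancel]; exact one_mem _) D.nontriv.2
    · have h1 : y ∈ centralizer (Q2 : Set G) := by
        rw [show y = (y ^ 2)⁻¹ * y ^ 3 by group, D.y_cube, mul_one]
        exact inv_mem hj
      exact absurd (fun u hu => by
        rw [← mem_centralizer_iff.1 h1 u hu, mul_inv_cancel_right, inv_mul_cancel]; exact one_mem _) D.nontriv.2
  have hzQ2 : z ∈ centralizer (Q2 : Set G) :=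
    mem_centralizer_iff.2 fun u hu => (D.set.comm_Z (D.frame.pair.le2 hu) D.z_mem).symm
  have hinj : Function.Injective f := by
    rintro ⟨i, j, w⟩ ⟨i', j', w'⟩ e
    have e' : z ^ (i : ℕ) * y ^ (j : ℕ) * (w : G) = z ^ (i' : ℕ) * y ^ (j' : ℕ) * w' := congrArg Subtype.val e
    have hzy : Commute z y := D.A_comm D.z_A D.y_A
    have hk : y ^ ((j : ℕ) + 2 * (j' : ℕ)) ∈ centralizer (Q2 : Set G) := by
      have e2 : y ^ ((j : ℕ) + 2 * (j' : ℕ)) = (z ^ (i : ℕ))⁻¹ * z ^ (i' : ℕ) * (w' * (w : G)⁻¹) := by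
        have hw'y : Commute (y ^ (j' : ℕ)) ((w' : G) * (w : G)⁻¹) :=
          (show Commute y ((w' : G) * (w : G)⁻¹) from
            D.A_comm D.y_A (mul_mem (Pl.le w'.2) (inv_mem (Pl.le w.2)))).pow_left _
        have e3 : y ^ (j : ℕ) = (z ^ (i : ℕ))⁻¹ * z ^ (i' : ℕ) * (y ^ (j' : ℕ) * (w' * (w : G)⁻¹)) := by
          calc y ^ (j : ℕ) = (z ^ (i : ℕ))⁻¹ * (z ^ (i : ℕ) * y ^ (j : ℕ) * w) * (w : G)⁻¹ := by group
            _ = _ := by rw [e']; group
        rw [pow_add, e3, hw'y.eq, ← mul_assoc, mul_assoc _ (y ^ (j' : ℕ)) (y ^ (2 * (j' : ℕ))), ← pow_add,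
          show (j' : ℕ) + 2 * j' = 3 * j' by ring, pow_mul, D.y_cube, one_pow, mul_one]
      rw [e2]
      exact mul_mem (mul_mem (inv_mem (pow_mem hzQ2 _)) (pow_mem hzQ2 _))
        (mul_mem (Pl.centQ2 w'.2) (inv_mem (Pl.centQ2 w.2)))
    have hjj : j = j' := by
      have h0 := orderOf_dvd_of_pow_eq_one (hy2 _ hk)
      rw [orderOf_eq_prime D.y_cube D.pt.ne_one] at h0
      omega
    subst hjj
    rw [mul_assoc, mul_assoc] at e'
    have hzW : (z ^ (i' : ℕ))⁻¹ * z ^ (i : ℕ) = (w' : G) * (w : G)⁻¹ := by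
      have hc : Commute (y ^ (j : ℕ)) ((w' : G) * (w : G)⁻¹) :=
        (show Commute y ((w' : G) * (w : G)⁻¹) from
          D.A_comm D.y_A (mul_mem (Pl.le w'.2) (inv_mem (Pl.le w.2)))).pow_left _
      calc (z ^ (i' : ℕ))⁻¹ * z ^ (i : ℕ) = (z ^ (i' : ℕ))⁻¹ * (z ^ (i : ℕ) * (y ^ (j : ℕ) * w)) * (w : G)⁻¹ *
            (y ^ (j : ℕ))⁻¹ := by group
        _ = y ^ (j : ℕ) * ((w' : G) * (w : G)⁻¹) * (y ^ (j : ℕ))⁻¹ := by rw [e']; group
        _ = _ := by rw [hc.eq, mul_inv_cancel_right]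
    have h1 := Pl.W_inf_Z (hzW ▸ mul_mem w'.2 (inv_mem w.2) : (z ^ (i' : ℕ))⁻¹ * z ^ (i : ℕ) ∈ W)
      (mul_mem (inv_mem (pow_mem D.z_mem _)) (pow_mem D.z_mem _))
    rw [inv_mul_eq_one, pow_inj_mod, orderOf_eq_prime (D.set.Z_cube D.z_mem) D.z_ne] at h1
    have hii : i = i' := by omega
    subst hii
    exact Prod.ext rfl (Prod.ext rfl (Subtype.ext (mul_left_cancel (mul_left_cancel e'))))
  have hb : Function.Bijective f := (Nat.bijective_iff_injective_and_card f).2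
    ⟨hinj, by rw [Nat.card_prod, Nat.card_prod, Pl.card, D.card_A]; simp⟩
  obtain ⟨⟨i, j, w⟩, e⟩ := hb.2 ⟨x, hx⟩
  exact ⟨i, j, w, w.2, (congrArg Subtype.val e).symm⟩

/-- Trivial on `Q₂/Z` in `A`. -/
theorem mem_zW {x : G} (hx : x ∈ AA P y t2) (ht : Triv Z Q2 x) :
    ∃ i : Fin 3, ∃ w ∈ W, x = z ^ (i : ℕ) * w := by
  obtain ⟨i, j, w, hw, rfl⟩ := Pl.mem_A' hx
  have D := Pl.data
  have hc : z ^ (i : ℕ) * y ^ (j : ℕ) * w ∈ centralizer (Q2 : Set G) :=
    mem_centralizer_iff.2 fun u hu => (D.cent_of_triv hx ht hu).symm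
  have hy : y ^ (j : ℕ) ∈ centralizer (Q2 : Set G) := by
    have hz : z ^ (i : ℕ) ∈ centralizer (Q2 : Set G) := pow_mem
      (mem_centralizer_iff.2 fun u hu => (D.set.comm_Z (D.frame.pair.le2 hu) D.z_mem).symm) _
    have := mul_mem (mul_mem (inv_mem hz) hc) (inv_mem (Pl.centQ2 hw))
    rwa [show (z ^ (i : ℕ))⁻¹ * (z ^ (i : ℕ) * y ^ (j : ℕ) * w) * w⁻¹ = y ^ (j : ℕ) by group] at this
  have hj : (j : ℕ) = 0 := by
    rcases (by omega : (j : ℕ) = 0 ∨ (j : ℕ) = 1 ∨ (j : ℕ) = 2) with e | e | e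
    · exact e
    · rw [e, pow_one] at hy
      exact absurd (fun u hu => by
        rw [← mem_centralizer_iff.1 hy u hu, mul_inv_cancel_right, inv_mul_cancel]; exact one_mem _) D.nontriv.2
    · rw [e] at hy
      have h1 : y ∈ centralizer (Q2 : Set G) := by
        rw [show y = (y ^ 2)⁻¹ * y ^ 3 by group, D.y_cube, mul_one]; exact inv_mem hy
      exact absurd (fun u hu => by
        rw [← mem_centralizer_iff.1 h1 u hu, mul_inv_cancel_right, inv_mul_cancel]; exact one_mem _) D.nontriv.2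
  exact ⟨i, w, hw, by rw [hj, pow_zero, mul_one]⟩

/-- A point of `C(Z)` centralising `Q₂` lies in `Z`. -/
theorem pt_cent {p : G} (hpC : p ∈ centralizer (Z : Set G)) (hp : IsPt Z p) (h2 : p ∈ centralizer (Q2 : Set G)) :
    p ∈ Z := by
  by_contra hpZ
  exact (Pl.data.frame.nontriv hp hpC hpZ).2 fun u hu => by
    rw [← mem_centralizer_iff.1 h2 u hu, mul_inv_cancel_right, inv_mul_cancel]; exact one_mem _

/-- The only point of `z W` is `z`. -/
theorem pt_zW {w : G} (hw : w ∈ W) (hp : IsPt Z (z * w)) : w = 1 := by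
  have D := Pl.data
  refine Pl.W_inf_Z hw ((mul_mem_cancel_left D.z_mem).1 (Pl.pt_cent ?_ hp ?_))
  · exact mul_mem (D.set.Q_le (D.set.Z_le D.z_mem)) (D.A_le_C (Pl.le hw))
  · exact mul_mem (mem_centralizer_iff.2 fun u hu => (D.set.comm_Z (D.frame.pair.le2 hu) D.z_mem).symm)
      (Pl.centQ2 hw)

/-- `C_P(W) = Q₂ A`. -/
theorem dec_P {k : G} (hk : k ∈ P) (hkW : k ∈ centralizer (W : Set G)) :
    ∃ v ∈ Q2, ∃ x ∈ AA P y t2, k = v * x := by
  have D := Pl.data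
  have F := D.frame
  have h := D.set
  set A := AA P y t2 with hA
  have hAQ : A ≤ normalizer (Q : Set G) := D.A_le_C.trans h.Q_norm
  have hc := card_sup_mul_inf (A := Q) (B := A) hAQ
  have hi : Nat.card ↥(Q ⊓ A) ≤ 9 := by
    haveI : Fact (Nat.Prime 3) := ⟨Nat.prime_three⟩
    have hle : Q ⊓ A ≤ Fx Q y := fun x hx => D.mem_B_Q hx.2.1 hx.1
    obtain ⟨e, he, ee⟩ := (Nat.dvd_prime_pow Nat.prime_three).1 (show Nat.card ↥(Q ⊓ A) ∣ 3 ^ 3 by
      rw [show (3 : ℕ) ^ 3 = Nat.card ↥(Fx Q y) by rw [D.card_Fxy]; norm_num]; exact card_dvd_of_le hle)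
    have : e ≠ 3 := fun e3 => D.a_notA
      ((Subgroup.eq_of_le_of_card_ge hle (by rw [D.card_Fxy, ee, e3]; norm_num)).ge D.a_W).2
    rw [ee]
    exact le_trans (Nat.pow_le_pow_right (by norm_num) (show e ≤ 2 by omega)) (by norm_num)
  rw [h.Q_card, hA, D.card_A] at hc
  have hP : Q ⊔ A = P := Subgroup.eq_of_le_of_card_ge (sup_le D.Q_le_P D.A_le_P) (by
    rw [D.P_card]; nlinarith)
  rw [← hP, ← SetLike.mem_coe, Subgroup.coe_mul_of_right_le_normalizer_left Q A hAQ, Set.mem_mul] at hk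
  obtain ⟨q, hq, x, hx, rfl⟩ := hk
  have hqW : q ∈ centralizer (W : Set G) := by
    have := mul_mem hkW (inv_mem (Pl.A_cent hx))
    rwa [mul_inv_cancel_right] at this
  obtain ⟨u, hu, v, hv, rfl⟩ := F.pair.dec q hq
  have hud : u ∈ Z ⊔ zpowers d := by
    rw [← F.pair.cent_eq h D.flag1.mem D.flag1.notZ]
    refine mem_inf.2 ⟨hu, mem_centralizer_singleton_iff.2 ?_⟩
    have h1 := mul_mem hqW (inv_mem (Pl.Q2_cent hv))
    rw [mul_inv_cancel_right] at h1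
    exact (mem_centralizer_iff.1 h1 d Pl.d_mem).symm
  refine ⟨v, hv, u * x, mul_mem ?_ hx, by rw [F.pair.comm u hu v hv, mul_assoc]⟩
  refine (sup_le ?_ (zpowers_le.2 D.d_A)) hud
  intro w hw
  rw [← zpowers_eq_of_prime h.Z_card D.z_mem D.z_ne] at hw
  exact (zpowers_le.2 D.z_A) hw

/-- `T = C_P(W)` has order at most `729`. -/
theorem card_T_le : Nat.card ↥(P ⊓ centralizer (W : Set G)) ≤ 729 := by
  have D := Pl.data
  have hn : AA P y t2 ≤ normalizer (Q2 : Set G) := fun x hx => Subgroup.mem_normalizer_fintype fun v hv =>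
    D.frame.symm.conj_mem1 D.P_pgroup D.P_le (D.A_le_P hx) hv
  have hle : P ⊓ centralizer (W : Set G) ≤ Q2 ⊔ AA P y t2 := fun k hk => by
    obtain ⟨v, hv, x, hx, rfl⟩ := Pl.dec_P hk.1 hk.2
    exact mul_mem_sup hv hx
  have hc := card_sup_mul_inf (A := Q2) (B := AA P y t2) hn
  have h3 : 3 ≤ Nat.card ↥(Q2 ⊓ AA P y t2) := by
    rw [← D.set.Z_card]
    exact Subgroup.card_le_of_le (le_inf D.frame.pair.Z2 ((zpowers_eq_of_prime D.set.Z_card D.z_mem D.z_ne).ge.trans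
      (zpowers_le.2 D.z_A)))
  rw [D.frame.pair.card2, D.card_A] at hc
  have := Subgroup.card_le_of_le hle
  nlinarith

/-- An element of `C(Z)` centralising `W` and trivial on `Q₂/Z` lies in `P`. -/
theorem mem_P_triv {k : G} (hkC : k ∈ centralizer (Z : Set G)) (hkW : k ∈ centralizer (W : Set G))
    (ht : Triv Z Q2 k) : k ∈ P :=
  Pl.data.mem_P hkC (by
    rw [← mem_centralizer_iff.1 hkW d Pl.d_mem, mul_inv_cancel_right, inv_mul_cancel]; exact one_mem _)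
    (ht a Pl.data.flag2.mem)

/-- A 3-subgroup of `C(W)` containing `T` is `T`. -/
theorem T_max {S : Subgroup G} (hS : IsPGroup 3 ↥S) (hSW : S ≤ centralizer (W : Set G))
    (hTS : P ⊓ centralizer (W : Set G) ≤ S) : S = P ⊓ centralizer (W : Set G) := by
  classical
  set T := P ⊓ centralizer (W : Set G) with hT
  by_contra hne
  haveI : Fact (Nat.Prime 3) := ⟨Nat.prime_three⟩
  haveI : Group.IsNilpotent ↥S := hS.isNilpotent
  have D := Pl.data
  have F := D.frame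
  have h := D.set
  have hlt : T.subgroupOf S < normalizer ((T.subgroupOf S : Subgroup ↥S) : Set ↥S) := by
    refine normalizerCondition_of_isNilpotent _ ?_
    rw [lt_top_iff_ne_top, Ne, subgroupOf_eq_top]
    exact fun hle => hne (le_antisymm hle hTS)
  obtain ⟨n, hn, hnT⟩ := SetLike.exists_of_lt hlt
  refine hnT (mem_subgroupOf.2 ?_)
  have hzT : z ∈ T := mem_inf.2 ⟨D.A_le_P D.z_A, Pl.A_cent D.z_A⟩
  have hconj : ∀ t ∈ T, (n : G) * t * (n : G)⁻¹ ∈ T := fun t ht => (mem_normalizer_iff.1 hn ⟨t, hTS ht⟩).1 ht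
  have hQ2T : Q2 ≤ T := le_inf ((F.pair.le2).trans D.Q_le_P) Pl.Q2_cent
  have hp2 : (n : G) * z * (n : G)⁻¹ ∈ centralizer (Q2 : Set G) := by
    refine mem_centralizer_iff.2 fun u hu => ?_
    have hu' : (n : G)⁻¹ * u * n ∈ T := by
      have := (mem_normalizer_iff.1 (inv_mem hn) ⟨u, hTS (hQ2T hu)⟩).1 (hQ2T hu)
      simpa [mem_subgroupOf] using this
    have hzc : ((n : G)⁻¹ * u * n) * z = z * ((n : G)⁻¹ * u * n) := D.z_cent (D.P_le hu'.1)
    calc u * ((n : G) * z * (n : G)⁻¹) = (n : G) * (((n : G)⁻¹ * u * n) * z) * (n : G)⁻¹ := by group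
      _ = _ := by rw [hzc]; group
  have hpZ : (n : G) * z * (n : G)⁻¹ ∈ Z :=
    Pl.pt_cent (D.P_le (hconj z hzT).1) ((IsPt.of_mem D.z_mem D.z_ne).conj _) hp2
  obtain ⟨k, hk⟩ := hS n
  have hk' : (n : G) ^ 3 ^ k = 1 := by simpa using congrArg Subtype.val hk
  have hnC : (n : G) ∈ centralizer (Z : Set G) := by
    refine D.mem_CZ ?_
    obtain ⟨m, hm⟩ : Odd (3 ^ k) := Odd.pow ⟨1, rfl⟩
    rcases zp_cases h.Z_card D.z_mem D.z_ne hpZ with e | e | e
    · exact absurd (conj_eq_one_iff.1 e) D.z_ne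
    · exact mul_inv_eq_iff_eq_mul.1 e
    · exfalso
      have hpow : ∀ j : ℕ, (n : G) ^ (2 * j + 1) * z * ((n : G) ^ (2 * j + 1))⁻¹ = z⁻¹ := by
        intro j
        induction j with
        | zero => simpa using e
        | succ j ih =>
          rw [show 2 * (j + 1) + 1 = (2 * j + 1) + 1 + 1 by ring, pow_succ', pow_succ',
            show (n : G) * ((n : G) * (n : G) ^ (2 * j + 1)) * z * ((n : G) * ((n : G) * (n : G) ^ (2 * j + 1)))⁻¹ =
              (n : G) * ((n : G) * ((n : G) ^ (2 * j + 1) * z * ((n : G) ^ (2 * j + 1))⁻¹) * (n : G)⁻¹) * (n : G)⁻¹ by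
              group, ih, ← conj_inv, e, inv_inv, e]
      have := hpow m
      rw [← hm, hk', one_mul, inv_one, mul_one] at this
      have h2 : z * z = 1 := by nth_rewrite 1 [this]; exact inv_mul_cancel z
      have h3 := h.Z_cube D.z_mem
      rw [pow_succ, pow_two, h2, one_mul] at h3
      exact D.z_ne h3
  -- the flag of `Q₂` is fixed
  set S' := S ⊓ centralizer (Z : Set G) with hS'
  obtain ⟨a'', hf⟩ := F.symm.exists_flag' (hS.to_le (inf_le_left : S' ≤ S)) inf_le_right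
  have hyT : y ∈ T := mem_inf.2 ⟨D.y_P, Pl.A_cent D.y_A⟩
  have haf := F.symm.mem_flag hf (mem_inf.2 ⟨hTS hyT, D.y_cent⟩) D.y_cent D.nontriv.2 D.flag2.mem
    (D.flag2.fix y D.y_P)
  have hfix2 : a⁻¹ * ((n : G) * a * (n : G)⁻¹) ∈ Z := by
    have hle : Z ⊔ zpowers a'' ≤ h.Mt (n : G) hnC := sup_le
      (fun w hw => ⟨h.Z_le hw, by rw [h.conj_Z hnC hw, inv_mul_cancel]; exact one_mem _⟩)
      (zpowers_le.2 ⟨F.pair.le2 hf.mem, hf.fix _ (mem_inf.2 ⟨n.2, hnC⟩)⟩)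
    exact (hle haf).2
  refine mem_inf.2 ⟨D.mem_P hnC ?_ hfix2, hSW n.2⟩
  rw [← mem_centralizer_iff.1 (hSW n.2) d Pl.d_mem, mul_inv_cancel_right, inv_mul_cancel]; exact one_mem _

/-- `y` is conjugate into `Z` in `C(W)`. -/
theorem exists_conj : ∃ c ∈ centralizer (W : Set G), c * y * c⁻¹ ∈ Z := by
  classical
  haveI : Fact (Nat.Prime 3) := ⟨Nat.prime_three⟩
  have D := Pl.data
  set C := centralizer (W : Set G) with hC
  set T := P ⊓ C with hT
  set U := Qy ⊔ BB P y with hU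
  have hUC : U ≤ C := sup_le (fun q hq => mem_centralizer_iff.2 fun w hw =>
    (mem_centralizer_iff.1 (Pl.centQy hw) q hq).symm) Pl.B_cent
  have hUy : U ≤ centralizer ({y} : Set G) := sup_le Pl.Qy_le inf_le_right
  have hUp : IsPGroup 3 ↥U := IsPGroup.to_sup_of_normal_left' Pl.Qy_three (D.P_pgroup.to_le inf_le_left) Pl.B_norm
  have hTp : IsPGroup 3 ↥T := D.P_pgroup.to_le inf_le_left
  obtain ⟨S, hS⟩ := (hTp.of_equiv (subgroupOfEquivOfLe (inf_le_right : T ≤ C)).symm).exists_le_sylow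
  obtain ⟨S', hS'⟩ := (hUp.of_equiv (subgroupOfEquivOfLe hUC).symm).exists_le_sylow
  obtain ⟨c, hc⟩ := MulAction.exists_smul_eq ↥C S' S
  have hSeq : (S : Subgroup ↥C).map C.subtype = T :=
    Pl.T_max (S.2.map _) (map_subtype_le _) fun x hx => ⟨⟨x, hx.2⟩, hS hx, rfl⟩
  have hmap : ∀ x ∈ U, (c : G) * x * (c : G)⁻¹ ∈ T := fun x hx => by
    rw [← hSeq]
    refine ⟨c * ⟨x, hUC hx⟩ * c⁻¹, ?_, rfl⟩
    rw [← hc, Sylow.coe_subgroup_smul]
    exact ⟨⟨x, hUC hx⟩, hS' hx, rfl⟩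
  have heq : U.map (MulAut.conj (c : G)).toMonoidHom = T := Subgroup.eq_of_le_of_card_ge
    (by rintro _ ⟨x, hx, rfl⟩; exact hmap x hx)
    (by rw [card_map_of_injective (MulAut.conj (c : G)).injective]; exact Pl.card_T_le.trans Pl.big)
  refine ⟨c, c.2, Pl.pt_cent (D.P_le (hmap y (mem_sup_right D.y_B)).1) (D.pt.conj _) ?_⟩
  refine mem_centralizer_iff.2 fun v hv => ?_
  have hvT : v ∈ T := ⟨(D.frame.pair.le2.trans D.Q_le_P) hv, Pl.Q2_cent hv⟩
  rw [← heq] at hvT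
  obtain ⟨x, hx, rfl⟩ := hvT
  show (c : G) * x * (c : G)⁻¹ * ((c : G) * y * (c : G)⁻¹) = (c : G) * y * (c : G)⁻¹ * ((c : G) * x * (c : G)⁻¹)
  rw [conj_mul, conj_mul, mem_centralizer_singleton_iff.1 (hUy hx)]

/-- `z` is not inverted in `C(W)`. -/
theorem not_real {x : G} (hxW : x ∈ centralizer (W : Set G)) : x * z * x⁻¹ ≠ z⁻¹ := by
  intro hxz
  have D := Pl.data
  have F := D.frame
  have h := D.set
  -- a transvection on `Q₁/Z` in `W`
  obtain ⟨w, hw, hwt⟩ : ∃ w ∈ W, ¬ Triv Z Q1 w := by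
    by_contra hall
    push Not at hall
    have hWQ : W ≤ Q := fun w hw => F.mem_Q_of_triv (D.A_le_C (Pl.le hw)) (hall w hw) fun u hu => by
      rw [← mem_centralizer_iff.1 (Pl.centQ2 hw) u hu, mul_inv_cancel_right, inv_mul_cancel]; exact one_mem _
    have hle : W ≤ Q ⊓ AA P y t2 := le_inf hWQ Pl.le
    have hzm : z ∈ Q ⊓ AA P y t2 := mem_inf.2 ⟨h.Z_le D.z_mem, D.z_A⟩
    haveI : Fact (Nat.Prime 3) := ⟨Nat.prime_three⟩
    have hle' : Q ⊓ AA P y t2 ≤ Fx Q y := fun x hx => D.mem_B_Q hx.2.1 hx.1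
    obtain ⟨e, he, ee⟩ := (Nat.dvd_prime_pow Nat.prime_three).1 (show Nat.card ↥(Q ⊓ AA P y t2) ∣ 3 ^ 3 by
      rw [show (3 : ℕ) ^ 3 = Nat.card ↥(Fx Q y) by rw [D.card_Fxy]; norm_num]; exact card_dvd_of_le hle')
    have : e ≠ 3 := fun e3 => D.a_notA
      ((Subgroup.eq_of_le_of_card_ge hle' (by rw [D.card_Fxy, ee, e3]; norm_num)).ge D.a_W).2
    refine Pl.z_not ((Subgroup.eq_of_le_of_card_ge hle ?_).ge hzm)
    rw [Pl.card, ee]
    exact le_trans (Nat.pow_le_pow_right (by norm_num) (show e ≤ 2 by omega)) (by norm_num)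
  have hxN : x ∈ normalizer (Z : Set G) := by
    refine Subgroup.mem_normalizer_fintype fun u hu => ?_
    rw [SetLike.mem_coe, ← zpowers_eq_of_prime h.Z_card D.z_mem D.z_ne] at hu ⊢
    obtain ⟨k, rfl⟩ := mem_zpowers_iff.1 hu
    rw [← conj_zpow, hxz]
    exact zpow_mem (inv_mem (mem_zpowers z)) k
  have hxd : x * d * x⁻¹ = d := by rw [← mem_centralizer_iff.1 hxW d Pl.d_mem, mul_inv_cancel_right]
  have hwC := D.A_le_C (Pl.le hw)
  refine no_inverter F (F.normalizer_le_normalizer_Q hxN) D.z_mem D.z_ne hxz hwC D.flag1.mem D.flag1.notZ (D.flag1.fix w (D.A_le_P (Pl.le hw)))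
    hwt (fun u hu => by
      rw [← mem_centralizer_iff.1 (Pl.centQ2 hw) u hu, mul_inv_cancel_right, inv_mul_cancel]; exact one_mem _)
    fun u hu => ?_
  rw [show x * w * x⁻¹ = w by rw [← mem_centralizer_iff.1 hxW w hw, mul_inv_cancel_right], inv_mul_cancel]
  exact one_mem _

end Plane

end Cfsg.Agent.UThreeLocal.Big.Local
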